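import Cfsg.Agent.Lib.FischerExist27.M22
import Cfsg.Agent.Lib.FischerExist27.Transport
import Cfsg.Agent.Lib.FischerUniq91.Main
import Cfsg.Agent.Lib.FischerMTypes.QuasiM22
import Cfsg.Agent.Lib.FischerMTypes.OrderWidth
import Cfsg.Agent.Lib.Components.Basic

/-!
# The two clauses about a group isomorphic to the presented Fi22

Owner: helper75.
-/

set_option autoImplicit false
set_option linter.style.haveILetI false

namespace Cfsg.Agent.Lib.FischerLarge75

open Cfsg Cfsg.Agent.Lib.FischerMTypes Cfsg.Agent.Lib.FischerMTypes.Basic Cfsg.Agent.Lib.FischerMTypes.Primitive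
  Cfsg.Agent.Lib.FischerMTypes.Levels

/-- transport of a class along an isomorphism -/
theorem class_of_equiv {G H : Type*} [Group G] [Group H] (e : G ≃* H) {D : Set G}
    (h : Cfsg.IsThreeTranspositionClass D) : Cfsg.IsThreeTranspositionClass (e '' D) := by
  obtain ⟨⟨hord, hprod⟩, ⟨d, hd, hcl⟩, hgen⟩ := h
  refine ⟨⟨?_, ?_⟩, ⟨e d, ⟨d, hd, rfl⟩, ?_⟩, ?_⟩
  · rintro _ ⟨x, hx, rfl⟩
    rw [e.orderOf_eq]
    exact hord x hx
  · rintro _ ⟨x, hx, rfl⟩ _ ⟨y, hy, rfl⟩
    rw [← map_mul, ← map_pow, ← map_pow]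
    exact (hprod x hx y hy).imp (fun h => by rw [h, map_one]) (fun h => by rw [h, map_one])
  · ext y
    constructor
    · rintro ⟨x, hx, rfl⟩
      rw [hcl] at hx
      obtain ⟨g, hg⟩ := isConj_iff.1 hx
      exact isConj_iff.2 ⟨e g, by rw [← hg, map_mul, map_mul, map_inv]⟩
    · intro hy
      obtain ⟨g, hg⟩ := isConj_iff.1 hy
      obtain ⟨g, rfl⟩ := e.surjective g
      refine ⟨g * d * g⁻¹, ?_, by rw [map_mul, map_mul, map_inv, hg]⟩
      rw [hcl]
      exact isConj_iff.2 ⟨g, rfl⟩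
  · rw [show e '' D = e.toMonoidHom '' D from rfl, ← MonoidHom.map_closure, hgen,
      Subgroup.map_top_of_surjective _ e.surjective]

/-- transport of primitivity -/
theorem prim_of_equiv {G H : Type*} [Group G] [Group H] (e : G ≃* H) {D : Set G}
    (h : Cfsg.IsPrimitiveUnderConj D) : Cfsg.IsPrimitiveUnderConj (e '' D) := by
  obtain ⟨h1, ⟨a, ha, b, hb, hab⟩, h3⟩ := h
  refine ⟨?_, ⟨e a, ⟨a, ha, rfl⟩, e b, ⟨b, hb, rfl⟩, fun h => hab (e.injective h)⟩, fun B hB hblock => ?_⟩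
  · rintro _ ⟨x, hx, rfl⟩ _ ⟨y, hy, rfl⟩
    obtain ⟨g, hg⟩ := h1 x hx y hy
    exact ⟨e g, by rw [← hg, map_mul, map_mul, map_inv]⟩
  · have hB' : e ⁻¹' B ⊆ D := fun x hx => by
      obtain ⟨y, hy, e'⟩ := hB hx
      exact e.injective e' ▸ hy
    have himg : e '' (e ⁻¹' B) = B := Set.image_preimage_eq B e.surjective
    have hblock' : ∀ g : G, (fun x => g * x * g⁻¹) '' (e ⁻¹' B) = e ⁻¹' B ∨
        Disjoint ((fun x => g * x * g⁻¹) '' (e ⁻¹' B)) (e ⁻¹' B) := by
      intro g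
      have hcomm : ∀ S : Set G, e '' ((fun x => g * x * g⁻¹) '' S) = (fun x => e g * x * (e g)⁻¹) '' (e '' S) := fun S => by
        simp only [Set.image_image, map_mul, map_inv]
      refine (hblock (e g)).imp (fun h => ?_) (fun h => ?_)
      · refine Set.image_injective.2 e.injective ?_
        rw [hcomm, himg, h]
      · rw [← himg, ← hcomm] at h
        exact (Set.disjoint_image_iff e.injective).1 h
    rcases h3 (e ⁻¹' B) hB' hblock' with h | h
    · refine Or.inl ?_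
      rw [← himg]
      exact h.image _
    · exact Or.inr (by rw [← himg, h])

/-- the presented Fi22 is of type M(22) -/
theorem exists_model : ∃ (E : Set Cfsg.Spor.Fi22), Finite Cfsg.Spor.Fi22 ∧
    Cfsg.IsThreeTranspositionClass E ∧ Cfsg.IsPrimitiveUnderConj E ∧ Cfsg.IsOfTypeM22 Cfsg.Spor.Fi22 E := by
  obtain ⟨ρ, h, ha, hb, hc⟩ := FischerExist27.M22.main
  haveI : Finite FischerExist27.M22.X := Finite.of_injective ρ h.inj
  have hD : Cfsg.IsThreeTranspositionGroup (Set.range h.pt) := by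
    refine ⟨ha.1, fun g x hx => ?_, ha.2.2⟩
    obtain ⟨d, -, hcl⟩ := ha.2.1
    rw [hcl] at hx ⊢
    exact IsConj.trans hx (isConj_iff.2 ⟨g, rfl⟩)
  obtain ⟨e, -⟩ := FischerUniq91.Main.exists_iso hD hb hc
  exact ⟨e.symm '' Set.range h.pt, Finite.of_injective e e.injective, class_of_equiv _ ha, prim_of_equiv _ hb,
    FischerExist27.typeM22_of_equiv _ rfl hc⟩

set_option maxHeartbeats 1000000 in
/-- the two clauses -/
theorem clauses {Y : Type*} [Group Y] (e : Y ≃* Cfsg.Spor.Fi22) :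
    (∃ E : Set Y, Cfsg.IsThreeTranspositionClass E ∧ Cfsg.IsOfTypeM22 Y E) ∧
    ∃ d' : Y, orderOf d' = 2 ∧ Cfsg.IsQuasisimple (Subgroup.centralizer ({d'} : Set Y)) ∧
      (∃ (K : Type) (_ : Field K) (_ : Fintype K), Fintype.card K = 4 ∧
        ∃ _ : ((Subgroup.zpowers d').subgroupOf (Subgroup.centralizer ({d'} : Set Y))).Normal,
          Nonempty ((Subgroup.centralizer ({d'} : Set Y)) ⧸ (Subgroup.zpowers d').subgroupOf
            (Subgroup.centralizer ({d'} : Set Y)) ≃* Cfsg.PSU 6 K 2)) ∧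
      ∃ g, g * d' * g⁻¹ ∈ Subgroup.centralizer ({d'} : Set Y) ∧ g * d' * g⁻¹ ≠ d' := by
  obtain ⟨E₀, hfin, h1, h2, h3⟩ := exists_model
  haveI := hfin
  haveI : Finite Y := Finite.of_injective e e.injective
  set E := e.symm '' E₀
  have hcl := class_of_equiv e.symm h1
  have hty : Cfsg.IsOfTypeM22 Y E := FischerExist27.typeM22_of_equiv _ rfl h3
  have hprim := prim_of_equiv e.symm h2
  refine ⟨⟨E, hcl, hty⟩, ?_⟩
  have hD : Cfsg.IsThreeTranspositionGroup E := by
    refine ⟨hcl.1, fun g x hx => ?_, hcl.2.2⟩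
    obtain ⟨d, -, hd⟩ := hcl.2.1
    rw [show E = conjugatesOf d from hd] at hx ⊢
    exact IsConj.trans hx (isConj_iff.2 ⟨g, rfl⟩)
  obtain ⟨F, iF, iFT, ⟨S⟩⟩ := TraceCounts.exists_sys hD hprim hty
  obtain ⟨a, ha, -⟩ := S.hprim.2.1
  have hCa : Subgroup.closure (perp E a) = Subgroup.centralizer ({a} : Set Y) := StabilizerM22.centralizer_eq S ha
  obtain ⟨b, hb, -⟩ := QuasiM22.exists_perp_noncomm S ha
  obtain ⟨g, hg⟩ := S.hprim.1 a ha b hb.1
  refine ⟨a, S.hD.1.1 a ha, Components.Quasisimple.of_mulEquiv (QuasiM22.quasisimple S ha)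
    (MulEquiv.subgroupCongr hCa), ⟨F, iF, iFT, (S.ctx a ha).hF.trans (by norm_num), ?_⟩, g, ?_, ?_⟩
  · rw [← hCa]
    have hZ := StabilizerM22.center_eq S ha
    haveI : ((Subgroup.zpowers a).subgroupOf (Subgroup.closure (perp E a))).Normal := hZ ▸ inferInstance
    exact ⟨inferInstance, ⟨(QuotientGroup.quotientMulEquivOfEq hZ.symm).trans
      ((QuotientGroup.quotientKerEquivOfSurjective _ (S.ctx a ha).surj).symm.trans
        (QuotientGroup.quotientMulEquivOfEq (S.ctx a ha).ker_eq))⟩⟩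
  · rw [hg]
    exact Subgroup.mem_centralizer_singleton_iff.2 hb.2.2.eq.symm
  · rw [hg]
    exact hb.2.1

end Cfsg.Agent.Lib.FischerLarge75
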