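import Cfsg.Agent.Lib.FischerLarge75.Autom
import Cfsg.Agent.Lib.FischerLarge75.Fi22
import Cfsg.Agent.S1696
import Cfsg.Prelude.Def_FischerSpaces
import Cfsg.Prelude.Def_Spor_Fi22

/-!
# The centraliser of the outer point involution is of type M(23)

Owner: helper75.
-/

set_option autoImplicit false
set_option linter.style.haveILetI false
set_option linter.unusedSectionVars false

namespace Cfsg.Agent.Lib.FischerLarge75

open Cfsg Cfsg.Agent.Lib.LargeFischer13

universe u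

/-- what is used about the centralisers of the pairs (statement S5450) -/
def PairCentraliser : Prop :=
  ∀ {G : Type u} [Group G] [Finite G] (z : G) (Q : Subgroup (Subgroup.centralizer ({z} : Set G))) [Q.Normal]
    (_hF : Cfsg.IsOfLargeFischerTypeAt z Q) (t : G)
    (_htQ : ∃ htc : t ∈ Subgroup.centralizer ({z} : Set G),
      (⟨t, htc⟩ : Subgroup.centralizer ({z} : Set G)) ∈ Q)
    (_ht2 : orderOf t = 2) (_ht : ¬ IsConj z t) (K : Subgroup ↥(Subgroup.centralizer ({t} : Set G)))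
    (_hK : K = Cfsg.generalizedFittingSubgroup ↥(Subgroup.centralizer ({t} : Set G)))
    [((Subgroup.zpowers t).subgroupOf (Subgroup.centralizer ({t} : Set G))).Normal],
    Cfsg.IsQuasisimple ↥K ∧ K.index = 2 ∧
      (∃ htc : t ∈ Subgroup.centralizer ({t} : Set G), (⟨t, htc⟩ : ↥(Subgroup.centralizer ({t} : Set G))) ∈ K) ∧
      Nonempty (↥(Subgroup.centralizer ({t} : Set G)) ⧸
        (Subgroup.zpowers t).subgroupOf (Subgroup.centralizer ({t} : Set G)) ≃* MulAut Cfsg.Spor.Fi22)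

/-- the recognition of type M(23) from the centraliser of an involution (statement S5402) -/
def TypeFromCentraliser : Prop :=
  ∀ {G : Type u} [Group G] [Finite G] (d : G) (_hd : orderOf d = 2)
    (_hq : Cfsg.IsQuasisimple (Subgroup.centralizer ({d} : Set G)))
    [((Subgroup.zpowers d).subgroupOf (Subgroup.centralizer ({d} : Set G))).Normal]
    (_htype : ∃ E : Set ((Subgroup.centralizer ({d} : Set G)) ⧸
        (Subgroup.zpowers d).subgroupOf (Subgroup.centralizer ({d} : Set G))),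
      Cfsg.IsThreeTranspositionClass E ∧ Cfsg.IsOfTypeM22 _ E)
    (_hinvol : ∃ d' : (Subgroup.centralizer ({d} : Set G)) ⧸
        (Subgroup.zpowers d).subgroupOf (Subgroup.centralizer ({d} : Set G)),
      orderOf d' = 2 ∧ Cfsg.IsQuasisimple (Subgroup.centralizer ({d'} : Set _)) ∧
      (∃ (K : Type) (_ : Field K) (_ : Fintype K), Fintype.card K = 4 ∧
        ∃ _ : ((Subgroup.zpowers d').subgroupOf (Subgroup.centralizer ({d'} : Set _))).Normal,
          Nonempty ((Subgroup.centralizer ({d'} : Set _)) ⧸ (Subgroup.zpowers d').subgroupOf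
            (Subgroup.centralizer ({d'} : Set _)) ≃* Cfsg.PSU 6 K 2)) ∧
      ∃ g, g * d' * g⁻¹ ∈ Subgroup.centralizer ({d'} : Set _) ∧ g * d' * g⁻¹ ≠ d')
    (_hnwc : ∃ g : G, g * d * g⁻¹ ∈ Subgroup.centralizer ({d} : Set G) ∧ g * d * g⁻¹ ≠ d),
    Cfsg.IsThreeTranspositionClass (conjugatesOf d) ∧ Cfsg.IsOfTypeM23 G (conjugatesOf d)

theorem normal_zpowers {G : Type*} [Group G] (t : G) :
    ((Subgroup.zpowers t).subgroupOf (Subgroup.centralizer ({t} : Set G))).Normal := by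
  refine ⟨fun n hn g => ?_⟩
  obtain ⟨k, hk⟩ := Subgroup.mem_zpowers_iff.1 (Subgroup.mem_subgroupOf.1 hn)
  have hg : Commute (g : G) (n : G) := by
    rw [← hk]
    exact (show Commute (g : G) t from Subgroup.mem_centralizer_singleton_iff.1 g.2).zpow_right k
  have : g * n * g⁻¹ = n := Subtype.ext (by
    show (g : G) * (n : G) * (g : G)⁻¹ = (n : G)
    rw [hg.eq, mul_inv_cancel_right])
  rwa [this]

theorem fi22_facts : Finite Cfsg.Spor.Fi22 ∧ IsSimpleGroup Cfsg.Spor.Fi22 ∧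
    ∃ a b : Cfsg.Spor.Fi22, a * b ≠ b * a := by
  obtain ⟨hs, hc⟩ := Cfsg.Agent.S1696.result
  haveI := hs
  refine ⟨Nat.finite_of_card_ne_zero (by rw [hc]; norm_num), hs, ?_⟩
  by_contra h
  push Not at h
  letI : CommGroup Cfsg.Spor.Fi22 := { (inferInstance : Group Cfsg.Spor.Fi22) with mul_comm := h }
  have hp : (Nat.card Cfsg.Spor.Fi22).Prime := IsSimpleGroup.prime_card
  rw [hc] at hp
  exact absurd (hp.eq_one_or_self_of_dvd 2 (by norm_num)) (by norm_num)

set_option maxHeartbeats 1000000 in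
/-- the conclusion at the centraliser of the point involution `d p` -/
theorem point_type (h5450 : PairCentraliser.{u}) (h5402 : TypeFromCentraliser.{u})
    {X : Type u} [Group X] [Finite X] {G₀ : Subgroup X} (hidx : G₀.index = 2) {z : ↥G₀}
    {Q : Subgroup (Subgroup.centralizer ({z} : Set ↥G₀))} [Q.Normal]
    (hF : Cfsg.IsOfLargeFischerTypeAt z Q) (F : Frame z Q) (O : Outer F) {p q : GolayPt} (hpq : p ≠ q)
    (htQ : ∃ h : F.P.tt p q ∈ Cz z, (⟨_, h⟩ : Cz z) ∈ Q)
    (t₀ : ↥(G₀ ⊓ Subgroup.centralizer ({O.d p} : Set X))) (htv : (t₀ : X) = (F.P.tt p q : X)) :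
    orderOf t₀ = 2 ∧
      Cfsg.IsQuasisimple ↥(Subgroup.centralizer ({t₀} : Set ↥(G₀ ⊓ Subgroup.centralizer ({O.d p} : Set X)))) ∧
      (∃ (_ : ((Subgroup.zpowers t₀).subgroupOf
          (Subgroup.centralizer ({t₀} : Set ↥(G₀ ⊓ Subgroup.centralizer ({O.d p} : Set X))))).Normal),
        (∃ E : Set (↥(Subgroup.centralizer ({t₀} : Set ↥(G₀ ⊓ Subgroup.centralizer ({O.d p} : Set X)))) ⧸
            (Subgroup.zpowers t₀).subgroupOf
              (Subgroup.centralizer ({t₀} : Set ↥(G₀ ⊓ Subgroup.centralizer ({O.d p} : Set X))))),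
          Cfsg.IsThreeTranspositionClass E ∧ Cfsg.IsOfTypeM22 _ E) ∧
        ∃ d' : ↥(Subgroup.centralizer ({t₀} : Set ↥(G₀ ⊓ Subgroup.centralizer ({O.d p} : Set X)))) ⧸
            (Subgroup.zpowers t₀).subgroupOf
              (Subgroup.centralizer ({t₀} : Set ↥(G₀ ⊓ Subgroup.centralizer ({O.d p} : Set X)))),
          orderOf d' = 2 ∧ Cfsg.IsQuasisimple ↥(Subgroup.centralizer ({d'} : Set _)) ∧
          (∃ (K : Type) (_ : Field K) (_ : Fintype K), Fintype.card K = 4 ∧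
            ∃ _ : ((Subgroup.zpowers d').subgroupOf (Subgroup.centralizer ({d'} : Set _))).Normal,
              Nonempty (↥(Subgroup.centralizer ({d'} : Set _)) ⧸ (Subgroup.zpowers d').subgroupOf
                (Subgroup.centralizer ({d'} : Set _)) ≃* Cfsg.PSU 6 K 2)) ∧
          ∃ g, g * d' * g⁻¹ ∈ Subgroup.centralizer ({d'} : Set _) ∧ g * d' * g⁻¹ ≠ d') ∧
      (∃ g : ↥(G₀ ⊓ Subgroup.centralizer ({O.d p} : Set X)),
        g * t₀ * g⁻¹ ∈ Subgroup.centralizer ({t₀} : Set ↥(G₀ ⊓ Subgroup.centralizer ({O.d p} : Set X))) ∧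
          g * t₀ * g⁻¹ ≠ t₀) ∧
      Cfsg.IsThreeTranspositionClass (conjugatesOf t₀) ∧
      Cfsg.IsOfTypeM23 ↥(G₀ ⊓ Subgroup.centralizer ({O.d p} : Set X)) (conjugatesOf t₀) := by
  obtain ⟨hSfin, hSsimple, hS⟩ := fi22_facts
  haveI := hSfin
  haveI := hSsimple
  have htA : F.P.tt p q ∈ F.A := F.tt_mem hpq
  have htne := (F.P.mem p q hpq).2
  have ht2 : orderOf (F.P.tt p q) = 2 := orderOf_eq_prime (by rw [pow_two, F.sq htA]) htne.1
  haveI hN := normal_zpowers (F.P.tt p q)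
  set C := Subgroup.centralizer ({F.P.tt p q} : Set ↥G₀) with hC
  set K := Cfsg.generalizedFittingSubgroup ↥C with hK
  obtain ⟨hKq, hKidx, htK, ⟨e⟩⟩ := h5450 z Q hF (F.P.tt p q) htQ ht2 htne.2 K rfl
  haveI : K.Normal := Subgroup.normal_of_index_eq_two hKidx
  let π : C →* MulAut Cfsg.Spor.Fi22 :=
    e.toMonoidHom.comp (QuotientGroup.mk' ((Subgroup.zpowers (F.P.tt p q)).subgroupOf C))
  have hπ : Function.Surjective π := e.surjective.comp (QuotientGroup.mk'_surjective _)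
  have hπker : π.ker = (Subgroup.zpowers (F.P.tt p q)).subgroupOf C := by
    ext x
    show e (QuotientGroup.mk' _ x) = 1 ↔ _
    rw [map_eq_one_iff _ e.injective, QuotientGroup.mk'_apply, QuotientGroup.eq_one_iff]
  have hcentral : π.ker ≤ Subgroup.center C := by
    intro c hc
    rw [hπker] at hc
    obtain ⟨n, hn⟩ := Subgroup.mem_zpowers_iff.1 (Subgroup.mem_subgroupOf.1 hc)
    refine Subgroup.mem_center_iff.2 fun x => Subtype.ext ?_
    have hx : Commute (x : ↥G₀) (F.P.tt p q) := Subgroup.mem_centralizer_singleton_iff.1 x.2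
    show (x : ↥G₀) * (c : ↥G₀) = (c : ↥G₀) * x
    rw [← hn]
    exact (hx.zpow_right n).eq
  have hchar : ∀ α : C ≃* C, ∀ k ∈ K, α k ∈ K := fun α k hk =>
    (Components.GenFitting.map_generalizedFitting α).le ⟨k, hk, rfl⟩
  have hKd := O.centralizes hidx hpq rfl K hchar hKq hKidx htK hS π hπ hπker
  obtain rfl : t₀ = ⟨(F.P.tt p q : X), Subgroup.mem_inf.2 ⟨(F.P.tt p q).2,
      Subgroup.mem_centralizer_singleton_iff.2 (O.commA p _ htA).eq.symm⟩⟩ := Subtype.ext htv
  set H : Subgroup X := G₀ ⊓ Subgroup.centralizer ({O.d p} : Set X) with hH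
  have hmemH : ∀ x : ↥G₀, Commute (x : X) (O.d p) → (x : X) ∈ H := fun x hx =>
    Subgroup.mem_inf.2 ⟨x.2, Subgroup.mem_centralizer_singleton_iff.2 hx.eq⟩
  set t : H := ⟨(F.P.tt p q : X), hmemH _ (O.commA p _ htA).symm⟩ with ht
  let toC : ↥(Subgroup.centralizer ({t} : Set H)) → C := fun h =>
    ⟨⟨((h : H) : X), (Subgroup.mem_inf.1 (h : H).2).1⟩, by
      have h1 := congrArg Subtype.val (Subgroup.mem_centralizer_singleton_iff.1 h.2)
      exact Subgroup.mem_centralizer_singleton_iff.2 (Subtype.ext h1)⟩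
  have htoK : ∀ h, toC h ∈ K := fun h =>
    (hKd _).2 (Subgroup.mem_centralizer_singleton_iff.1 (Subgroup.mem_inf.1 (h : H).2).2)
  let eK : ↥(Subgroup.centralizer ({t} : Set H)) ≃* ↥K :=
    { toFun := fun h => ⟨toC h, htoK h⟩
      invFun := fun k => ⟨⟨(((k : C) : ↥G₀) : X), hmemH _ ((hKd _).1 k.2)⟩, by
        have h1 := congrArg Subtype.val (Subgroup.mem_centralizer_singleton_iff.1 (k : C).2)
        exact Subgroup.mem_centralizer_singleton_iff.2 (Subtype.ext h1)⟩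
      left_inv := fun h => rfl
      right_inv := fun k => rfl
      map_mul' := fun a b => rfl }
  have ht2' : orderOf t = 2 := by
    rw [← Subgroup.orderOf_coe, show ((t : H) : X) = ((F.P.tt p q : ↥G₀) : X) from rfl, Subgroup.orderOf_coe, ht2]
  have hq : Cfsg.IsQuasisimple ↥(Subgroup.centralizer ({t} : Set H)) :=
    Components.Quasisimple.of_mulEquiv hKq eK.symm
  have hinj := conj_injective hS
  have himg := map_eq_inn hS hKq π hπ hcentral
  let φ : ↥(Subgroup.centralizer ({t} : Set H)) →* (MulAut.conj : Cfsg.Spor.Fi22 →* MulAut Cfsg.Spor.Fi22).range :=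
    ((π.comp K.subtype).comp eK.toMonoidHom).codRestrict _ fun h => himg.le ⟨_, (eK h).2, rfl⟩
  have hφ : Function.Surjective φ := by
    rintro ⟨_, hy⟩
    obtain ⟨k, hk, rfl⟩ := himg.ge hy
    refine ⟨eK.symm ⟨k, hk⟩, Subtype.ext ?_⟩
    show π (eK (eK.symm ⟨k, hk⟩) : C) = π k
    rw [MulEquiv.apply_symm_apply]
  have hφker : φ.ker = (Subgroup.zpowers t).subgroupOf (Subgroup.centralizer ({t} : Set H)) := by
    ext h
    rw [MonoidHom.mem_ker, Subtype.ext_iff]
    show π (toC h) = 1 ↔ _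
    rw [← MonoidHom.mem_ker, hπker, Subgroup.mem_subgroupOf, Subgroup.mem_subgroupOf, Subgroup.mem_zpowers_iff,
      Subgroup.mem_zpowers_iff]
    refine exists_congr fun n => ?_
    simp only [Subtype.ext_iff, Subgroup.coe_zpow, ht, toC]
  haveI : ((Subgroup.zpowers t).subgroupOf (Subgroup.centralizer ({t} : Set H))).Normal := normal_zpowers t
  let eY : ↥(Subgroup.centralizer ({t} : Set H)) ⧸
      (Subgroup.zpowers t).subgroupOf (Subgroup.centralizer ({t} : Set H)) ≃* Cfsg.Spor.Fi22 :=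
    ((QuotientGroup.quotientMulEquivOfEq hφker.symm).trans
      (QuotientGroup.quotientKerEquivOfSurjective φ hφ)).trans (MonoidHom.ofInjective hinj).symm
  obtain ⟨hE, hd'⟩ := clauses eY
  have hnwc : ∃ g : H, g * t * g⁻¹ ∈ Subgroup.centralizer ({t} : Set H) ∧ g * t * g⁻¹ ≠ t := by
    obtain ⟨r, hr1, hr2, -⟩ := avoid p q q
    obtain ⟨x, hx1, hx2, hx3⟩ := avoid p q r
    obtain ⟨σ, hσ, s1, s2, -, -⟩ := exists_four (a := p) (b := q) (c := r) (e := x)
      (a' := p) (b' := r) (c' := q) (e' := x)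
      (by simp [hpq, Ne.symm hr1, Ne.symm hr2, Ne.symm hx1, Ne.symm hx2, Ne.symm hx3])
      (by simp [hpq, hr2, Ne.symm hr1, Ne.symm hx1, Ne.symm hx2, Ne.symm hx3])
    have hφm := F.φ_lift hσ
    set m := F.lift hσ with hm
    have hmd : Commute (((m : ↥G₀)) : X) (O.d p) := (O.comm_iff m p).2 (by rw [hφm, s1])
    refine ⟨⟨((m : ↥G₀) : X), hmemH _ hmd⟩, ?_⟩
    have he : (((⟨((m : ↥G₀) : X), hmemH _ hmd⟩ : H) * t * (⟨((m : ↥G₀) : X), hmemH _ hmd⟩ : H)⁻¹ : H) : X) =
        ((F.P.tt p r : ↥G₀) : X) := by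
      have := F.P.equiv m p q
      rw [hφm, s1, s2] at this
      rw [← this]
      simp [ht]
    refine ⟨Subgroup.mem_centralizer_singleton_iff.2 (Subtype.ext ?_), fun h => ?_⟩
    · show (((_ : H) : X)) * ((t : H) : X) = ((t : H) : X) * ((_ : H) : X)
      rw [he]
      exact congrArg Subtype.val (F.comm (F.tt_mem (Ne.symm hr1)) htA).eq
    · have h2 : ((F.P.tt p r : ↥G₀) : X) = ((F.P.tt p q : ↥G₀) : X) := he.symm.trans (congrArg Subtype.val h)
      rcases F.P.inj _ _ _ _ (Ne.symm hr1) hpq (Subtype.ext h2) with ⟨-, e'⟩ | ⟨e', -⟩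
      · exact hr2 e'
      · exact hpq e'
  obtain ⟨h3, hM⟩ := h5402 t ht2' hq hE hd' hnwc
  exact ⟨ht2', hq, ⟨inferInstance, hE, hd'⟩, hnwc, h3, hM⟩


/-- the statement S5460 from S5450 and S5402 -/
theorem exists_outer_of_type (h5450 : PairCentraliser.{u}) (h5402 : TypeFromCentraliser.{u})
    {X : Type u} [Group X] [Finite X] (G₀ : Subgroup X) (hidx : G₀.index = 2) (z : ↥G₀)
    (Q : Subgroup (Subgroup.centralizer ({z} : Set ↥G₀))) [Q.Normal]
    (hF : Cfsg.IsOfLargeFischerTypeAt z Q)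
    (hFX : (Cfsg.generalizedFittingSubgroup ↥(Subgroup.centralizer ({(z : X)} : Set X))).map (Subgroup.subtype _) =
      ((Q.map (Subgroup.subtype _)).map G₀.subtype)) :
    ∃ d : X, orderOf d = 2 ∧ d ∉ G₀ ∧ Commute d (z : X) ∧
      ∃ t : ↥(G₀ ⊓ Subgroup.centralizer ({d} : Set X)), orderOf t = 2 ∧
      Cfsg.IsQuasisimple ↥(Subgroup.centralizer ({t} : Set ↥(G₀ ⊓ Subgroup.centralizer ({d} : Set X)))) ∧
      (∃ (_ : ((Subgroup.zpowers t).subgroupOf
          (Subgroup.centralizer ({t} : Set ↥(G₀ ⊓ Subgroup.centralizer ({d} : Set X))))).Normal),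
        (∃ E : Set (↥(Subgroup.centralizer ({t} : Set ↥(G₀ ⊓ Subgroup.centralizer ({d} : Set X)))) ⧸
            (Subgroup.zpowers t).subgroupOf
              (Subgroup.centralizer ({t} : Set ↥(G₀ ⊓ Subgroup.centralizer ({d} : Set X))))),
          Cfsg.IsThreeTranspositionClass E ∧ Cfsg.IsOfTypeM22 _ E) ∧
        ∃ d' : ↥(Subgroup.centralizer ({t} : Set ↥(G₀ ⊓ Subgroup.centralizer ({d} : Set X)))) ⧸
            (Subgroup.zpowers t).subgroupOf
              (Subgroup.centralizer ({t} : Set ↥(G₀ ⊓ Subgroup.centralizer ({d} : Set X)))),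
          orderOf d' = 2 ∧ Cfsg.IsQuasisimple ↥(Subgroup.centralizer ({d'} : Set _)) ∧
          (∃ (K : Type) (_ : Field K) (_ : Fintype K), Fintype.card K = 4 ∧
            ∃ _ : ((Subgroup.zpowers d').subgroupOf (Subgroup.centralizer ({d'} : Set _))).Normal,
              Nonempty (↥(Subgroup.centralizer ({d'} : Set _)) ⧸ (Subgroup.zpowers d').subgroupOf
                (Subgroup.centralizer ({d'} : Set _)) ≃* Cfsg.PSU 6 K 2)) ∧
          ∃ g, g * d' * g⁻¹ ∈ Subgroup.centralizer ({d'} : Set _) ∧ g * d' * g⁻¹ ≠ d') ∧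
      (∃ g : ↥(G₀ ⊓ Subgroup.centralizer ({d} : Set X)),
        g * t * g⁻¹ ∈ Subgroup.centralizer ({t} : Set ↥(G₀ ⊓ Subgroup.centralizer ({d} : Set X))) ∧
          g * t * g⁻¹ ≠ t) ∧
      Cfsg.IsThreeTranspositionClass (conjugatesOf t) ∧
      Cfsg.IsOfTypeM23 ↥(G₀ ⊓ Subgroup.centralizer ({d} : Set X)) (conjugatesOf t) := by
  obtain ⟨F⟩ := exists_frame hF
  obtain ⟨O⟩ := F.exists_outer hidx hFX
  obtain ⟨p, q, hpq, htQ⟩ := F.duadQ
  refine ⟨O.d p, orderOf_eq_prime (by rw [pow_two, O.sq]) (fun h => O.out p (by rw [h]; exact one_mem _)), O.out p,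
    O.commA p z F.zA, ⟨(F.P.tt p q : X), Subgroup.mem_inf.2 ⟨(F.P.tt p q).2,
      Subgroup.mem_centralizer_singleton_iff.2 (O.commA p _ (F.tt_mem hpq)).eq.symm⟩⟩, ?_⟩
  exact point_type h5450 h5402 hidx hF F O hpq htQ _ rfl

end Cfsg.Agent.Lib.FischerLarge75
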