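import Mathlib
import Cfsg.Prelude.Def_CaseTheorems
import Cfsg.Agent.Lib.Components.Basic

/-!
# An automorphism of a group with a quasisimple part of full automorphism quotient is inner on that part

Owner: helper75.
-/

set_option autoImplicit false
set_option linter.style.haveILetI false

namespace Cfsg.Agent.Lib.FischerLarge75

open scoped commutatorElement

variable {C S : Type*} [Group C] [Group S] [Finite S]

theorem conj_injective [IsSimpleGroup S] (hS : ∃ a b : S, a * b ≠ b * a) :
    Function.Injective (MulAut.conj : S →* MulAut S) := by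
  refine (injective_iff_map_eq_one _).2 fun s hs => ?_
  have hcen : s ∈ Subgroup.center S := Subgroup.mem_center_iff.2 fun x => by
    have h := congrArg (fun a : MulAut S => a x) hs
    simp only [MulAut.conj_apply, MulAut.one_apply] at h
    exact (mul_inv_eq_iff_eq_mul.1 h).symm
  rcases (inferInstance : (Subgroup.center S).Normal).eq_bot_or_eq_top with h | h
  · rw [h, Subgroup.mem_bot] at hcen
    exact hcen
  · obtain ⟨a, b, hab⟩ := hS
    exact absurd (Subgroup.mem_center_iff.1 (h ▸ Subgroup.mem_top b) a) hab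

/-- the quasisimple part is the preimage of the inner automorphisms -/
theorem map_eq_inn [IsSimpleGroup S] (hS : ∃ a b : S, a * b ≠ b * a) {K : Subgroup C} [K.Normal]
    (hK : Cfsg.IsQuasisimple ↥K) (π : C →* MulAut S) (hπ : Function.Surjective π)
    (hker : π.ker ≤ Subgroup.center C) : K.map π = (MulAut.conj : S →* MulAut S).range := by
  set I := (MulAut.conj : S →* MulAut S).range with hI
  haveI : I.Normal := by
    refine ⟨fun n hn φ => ?_⟩
    obtain ⟨g, rfl⟩ := hn
    exact ⟨φ g, by ext x; simp [MulAut.conj_apply, map_mul, map_inv]⟩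
  haveI : (K.map π).Normal := Subgroup.Normal.map inferInstance _ hπ
  have hinj := conj_injective hS
  haveI : IsSimpleGroup I := (MonoidHom.ofInjective hinj).symm.isSimpleGroup
  obtain ⟨hperf, hsimp⟩ := hK
  have hab : ¬ ∀ k l : K, k * l = l * k := by
    intro h
    haveI := hperf
    have h1 : commutator ↥K = ⊥ :=
      (commutator_eq_bot_iff_center_eq_top _).2 (eq_top_iff.2 fun x _ => Subgroup.mem_center_iff.2 fun y => h y x)
    rw [Group.IsPerfect.commutator_eq_top] at h1
    haveI : Nontrivial K := Components.Quasisimple.nontrivial ⟨hperf, hsimp⟩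
    exact top_ne_bot h1
  have hle : I ≤ K.map π := by
    rcases (Subgroup.Normal.subgroupOf (inferInstance : (K.map π).Normal) I).eq_bot_or_eq_top with h | h
    · exfalso
      refine hab fun k l => ?_
      have htriv : ∀ k ∈ K, π k = 1 := fun k hk => by
        refine MulEquiv.ext fun s => ?_
        have hc : π k * MulAut.conj s = MulAut.conj s * π k :=
          Subgroup.commute_of_normal_of_disjoint (K.map π) I inferInstance inferInstance
            (disjoint_iff.2 ((Subgroup.subgroupOf_eq_bot.1 h).eq_bot)) _ _ ⟨k, hk, rfl⟩ ⟨s, rfl⟩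
        have : MulAut.conj (π k s) = MulAut.conj s := by
          have h2 : π k * MulAut.conj s * (π k)⁻¹ = MulAut.conj (π k s) := by
            ext x; simp [MulAut.conj_apply, map_mul, map_inv]
          rw [← h2, hc, mul_inv_cancel_right]
        exact hinj this
      exact Subtype.ext (Subgroup.mem_center_iff.1 (hker (MonoidHom.mem_ker.2 (htriv l l.2))) k)
    · exact Subgroup.subgroupOf_eq_top.1 h
  refine le_antisymm ?_ hle
  set K₁ : Subgroup K := (I.comap π).subgroupOf K
  haveI : K₁.Normal := (Subgroup.Normal.comap inferInstance π).subgroupOf K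
  haveI := hsimp
  rcases (Subgroup.Normal.map (inferInstance : K₁.Normal) (QuotientGroup.mk' (Subgroup.center K))
    (QuotientGroup.mk'_surjective _)).eq_bot_or_eq_top with h | h
  · exfalso
    obtain ⟨a, b, hne⟩ := hS
    refine hne (hinj ?_)
    obtain ⟨k, hk, ek⟩ := hle ⟨a, rfl⟩
    obtain ⟨l, hl, el⟩ := hle ⟨b, rfl⟩
    have hcen : (⟨k, hk⟩ : K) ∈ Subgroup.center K := by
      refine (QuotientGroup.eq_one_iff _).1 (Subgroup.mem_bot.1 (h ▸ Subgroup.mem_map_of_mem
        (QuotientGroup.mk' (Subgroup.center K)) ?_))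
      show π k ∈ I
      exact ⟨a, ek.symm⟩
    have := congrArg Subtype.val (Subgroup.mem_center_iff.1 hcen ⟨l, hl⟩)
    simp only [Subgroup.coe_mul] at this
    rw [map_mul, map_mul, ← ek, ← el, ← map_mul, ← map_mul, this]
  · have hsup : ∀ k : K, ∃ u ∈ K₁, ∃ c ∈ Subgroup.center K, k = u * c := by
      intro k
      obtain ⟨u, hu, e⟩ := h.ge (Subgroup.mem_top (QuotientGroup.mk' (Subgroup.center K) k))
      exact ⟨u, hu, u⁻¹ * k, QuotientGroup.eq.1 e, (mul_inv_cancel_left _ _).symm⟩
    have hcomm : commutator ↥K ≤ K₁ := by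
      rw [commutator_def, Subgroup.commutator_le]
      intro k _ l _
      obtain ⟨u, hu, c, hc, rfl⟩ := hsup k
      obtain ⟨v, hv, d, hd, rfl⟩ := hsup l
      have e : ⁅u * c, v * d⁆ = ⁅u, v⁆ := by
        have hc' := fun x => Subgroup.mem_center_iff.1 hc x
        have hd' := fun x => Subgroup.mem_center_iff.1 hd x
        simp only [commutatorElement_def, mul_inv_rev]
        calc u * c * (v * d) * (c⁻¹ * u⁻¹) * (d⁻¹ * v⁻¹) = u * ((v * d) * c) * (c⁻¹ * u⁻¹) * (d⁻¹ * v⁻¹) := by
              rw [hc' (v * d)]; group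
          _ = u * v * (d * u⁻¹) * d⁻¹ * v⁻¹ := by group
          _ = u * v * (u⁻¹ * d) * d⁻¹ * v⁻¹ := by rw [hd' u⁻¹]
          _ = _ := by group
      rw [e, commutatorElement_def]
      exact mul_mem (mul_mem (mul_mem hu hv) (inv_mem hu)) (inv_mem hv)
    haveI := hperf
    rw [Group.IsPerfect.commutator_eq_top] at hcomm
    rintro _ ⟨k, hk, rfl⟩
    exact hcomm (Subgroup.mem_top (⟨k, hk⟩ : K))

/-- some element acts on the quasisimple part as the given automorphism -/
theorem realise [IsSimpleGroup S] (hS : ∃ a b : S, a * b ≠ b * a) {K : Subgroup C} [K.Normal]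
    (hK : Cfsg.IsQuasisimple ↥K) (π : C →* MulAut S) (hπ : Function.Surjective π)
    (hker : π.ker ≤ Subgroup.center C) (α : C ≃* C) (hαker : ∀ x, π x = 1 → π (α x) = 1)
    (hαK : ∀ k ∈ K, α k ∈ K) : ∃ c : C, ∀ k ∈ K, α k = c * k * c⁻¹ := by
  have himg := map_eq_inn hS hK π hπ hker
  have hinj := conj_injective hS
  have hcong : ∀ k k', π k = π k' → π (α k) = π (α k') := fun k k' h => by
    have : π (k⁻¹ * k') = 1 := by rw [map_mul, map_inv, h, inv_mul_cancel]
    have := hαker _ this
    rw [map_mul, map_inv, map_mul, map_inv] at this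
    exact inv_mul_eq_one.1 this
  choose lift hlift hπlift using fun s : S => himg.ge (⟨s, rfl⟩ : MulAut.conj s ∈ (MulAut.conj : S →* MulAut S).range)
  choose β hβ using fun s : S => himg.le ⟨α (lift s), hαK _ (hlift s), rfl⟩
  have hmul : ∀ s t, β (s * t) = β s * β t := fun s t => hinj (by
    rw [hβ, map_mul, hβ, hβ, ← map_mul π, ← map_mul α]
    exact hcong _ _ (by rw [map_mul, hπlift, hπlift, hπlift, map_mul]))
  let B : S →* S := MonoidHom.mk' β hmul
  have hBinj : Function.Injective B := (injective_iff_map_eq_one B).2 fun s hs => by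
    have h1 : π (α (lift s)) = 1 := by rw [← hβ, show β s = 1 from hs, map_one]
    have h2 : α (lift s) ∈ Subgroup.center C := hker h1
    have h3 : lift s ∈ Subgroup.center C := Subgroup.mem_center_iff.2 fun x => α.injective (by
      rw [map_mul, map_mul, Subgroup.mem_center_iff.1 h2 (α x)])
    refine hinj ?_
    rw [map_one, ← hπlift s]
    have h4 : ∀ t : S, π (lift s) * MulAut.conj t = MulAut.conj t * π (lift s) := fun t => by
      rw [← hπlift t, ← map_mul, ← map_mul, Subgroup.mem_center_iff.1 h3 (lift t)]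
    rw [hπlift] at h4 ⊢
    have h5 : ∀ t, s * t = t * s := fun t => hinj (by rw [map_mul, map_mul]; exact h4 t)
    rw [show s = 1 from ?_, map_one]
    exact hinj (by
      rw [map_one]
      ext x
      rw [MulAut.conj_apply, h5, mul_inv_cancel_right, MulAut.one_apply])
  obtain ⟨c, hc⟩ := hπ (MulEquiv.ofBijective B (Finite.injective_iff_bijective.1 hBinj))
  refine ⟨c, ?_⟩
  have hmod : ∀ k ∈ K, (c * k * c⁻¹)⁻¹ * α k ∈ Subgroup.center C := by
    intro k hk
    refine hker (MonoidHom.mem_ker.2 ?_)
    obtain ⟨s, hs⟩ := himg.le ⟨k, hk, rfl⟩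
    rw [map_mul, map_inv, inv_mul_eq_one, map_mul, map_mul, map_inv, hcong k (lift s) (by rw [hπlift, hs]), ← hβ, ← hs, hc]
    ext x
    simp [MulAut.conj_apply, map_mul, map_inv, B]
  obtain ⟨hperf, -⟩ := hK
  haveI := hperf
  set W : Subgroup K := ((α.toMonoidHom).eqLocus (MulAut.conj c).toMonoidHom).subgroupOf K
  have hW : commutator ↥K ≤ W := by
    rw [commutator_def, Subgroup.commutator_le]
    intro k _ l _
    show α (⁅k, l⁆ : K).1 = MulAut.conj c (⁅k, l⁆ : K).1
    have hk := hmod k k.2
    have hl := hmod l l.2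
    have ek : α k = MulAut.conj c (k : C) * ((c * k * c⁻¹)⁻¹ * α k) := by rw [MulAut.conj_apply, mul_inv_cancel_left]
    have el : α l = MulAut.conj c (l : C) * ((c * l * c⁻¹)⁻¹ * α l) := by rw [MulAut.conj_apply, mul_inv_cancel_left]
    show α ⁅(k : C), (l : C)⁆ = MulAut.conj c ⁅(k : C), (l : C)⁆
    rw [map_commutatorElement, map_commutatorElement, ek, el]
    set a := MulAut.conj c (k : C)
    set b := MulAut.conj c (l : C)
    set u := (c * k * c⁻¹)⁻¹ * α k
    set v := (c * l * c⁻¹)⁻¹ * α l
    simp only [commutatorElement_def, mul_inv_rev]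
    calc a * u * (b * v) * (u⁻¹ * a⁻¹) * (v⁻¹ * b⁻¹) = a * ((b * v) * u) * (u⁻¹ * a⁻¹) * (v⁻¹ * b⁻¹) := by
          rw [Subgroup.mem_center_iff.1 hk (b * v)]; group
      _ = a * b * (v * a⁻¹) * v⁻¹ * b⁻¹ := by group
      _ = a * b * (a⁻¹ * v) * v⁻¹ * b⁻¹ := by rw [Subgroup.mem_center_iff.1 hl a⁻¹]
      _ = _ := by group
  rw [Group.IsPerfect.commutator_eq_top] at hW
  intro k hk
  exact hW (Subgroup.mem_top (⟨k, hk⟩ : K))

end Cfsg.Agent.Lib.FischerLarge75
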