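import Cfsg.Agent.Lib.FischerLarge75.Outer
import Cfsg.Agent.Lib.FischerLarge75.Realise

/-!
# A point involution centralises the quasisimple part of the centraliser of its pairs

Owner: helper75.
-/

set_option autoImplicit false
set_option linter.style.haveILetI false
set_option linter.unusedSectionVars false

namespace Cfsg.Agent.Lib.FischerLarge75

open Cfsg Cfsg.Agent.Lib.LargeFischer13
open scoped commutatorElement

universe u

variable {X : Type u} [Group X] [Finite X] {G₀ : Subgroup X} {z : ↥G₀} {Q : Subgroup (Cz z)} [Q.Normal]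
variable {F : Frame z Q}

/-- four points go to any four points -/
theorem exists_four {a b c e a' b' c' e' : GolayPt} (h : [a, b, c, e].Nodup) (h' : [a', b', c', e'].Nodup) :
    ∃ σ ∈ M24, σ a = a' ∧ σ b = b' ∧ σ c = c' ∧ σ e = e' := by
  haveI := Golay.multiply_pretransitive
  haveI : MulAction.IsMultiplyPretransitive Cfsg.M24 Cfsg.GolayPt 4 :=
    MulAction.isMultiplyPretransitive_of_le (n := 5) (by norm_num) (by simp [Cfsg.GolayPt])
  obtain ⟨⟨σ, hσ⟩, e1⟩ := MulAction.exists_smul_eq Cfsg.M24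
    (⟨fun i => [a, b, c, e].get i, List.nodup_iff_injective_get.1 h⟩ : Fin 4 ↪ GolayPt)
    (⟨fun i => [a', b', c', e'].get i, List.nodup_iff_injective_get.1 h'⟩ : Fin 4 ↪ GolayPt)
  exact ⟨σ, hσ, congrArg (fun f : Fin 4 ↪ GolayPt => f 0) e1, congrArg (fun f : Fin 4 ↪ GolayPt => f 1) e1,
    congrArg (fun f : Fin 4 ↪ GolayPt => f 2) e1, congrArg (fun f : Fin 4 ↪ GolayPt => f 3) e1⟩

theorem avoid (a b c : GolayPt) : ∃ x, x ≠ a ∧ x ≠ b ∧ x ≠ c := by
  obtain ⟨x, hx⟩ : ∃ x, x ∉ ({a, b, c} : Finset GolayPt) := by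
    by_contra h
    push Not at h
    have := Finset.eq_univ_iff_forall.2 h
    have h3 := Finset.card_le_three (a := a) (b := b) (c := c)
    rw [this, Finset.card_univ] at h3
    simp [GolayPt] at h3
  simp only [Finset.mem_insert, Finset.mem_singleton, not_or] at hx
  exact ⟨x, hx⟩

namespace Frame

/-- a nontrivial relation between the pairs at a point, avoiding a second point -/
theorem exists_relation (F : Frame z Q) : ∃ S : Finset GolayPt, S.Nonempty ∧ none ∉ S ∧ some 0 ∉ S ∧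
    ∀ W : Subgroup ↥G₀, ∀ r ∈ S, (∀ u ∈ S, u ≠ r → F.P.tt none u ∈ W) → F.P.tt none r ∈ W := by
  classical
  letI : CommGroup F.A := { (inferInstance : Group F.A) with mul_comm := fun a b => Subtype.ext (F.comm a.2 b.2).eq }
  let g : GolayPt → F.A := fun r => if h : none ≠ r then ⟨F.P.tt none r, F.tt_mem h⟩ else 1
  set P0 : Finset GolayPt := (Finset.univ.erase none).erase (some 0) with hP0
  letI : Fintype F.A := Fintype.ofFinite _
  obtain ⟨S, hS, T, hT, hne, hST⟩ : ∃ S ∈ P0.powerset, ∃ T ∈ P0.powerset, S ≠ T ∧ ∏ r ∈ S, g r = ∏ r ∈ T, g r := by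
    refine Finset.exists_ne_map_eq_of_card_lt_of_maps_to (t := Finset.univ) ?_ fun _ _ => Finset.mem_univ _
    rw [Finset.card_powerset, Finset.card_univ, ← Nat.card_eq_fintype_card, F.card, hP0]
    exact Nat.pow_lt_pow_right (by norm_num) (by simp [GolayPt])
  rw [Finset.mem_powerset] at hS hT
  set D := symmDiff S T with hD
  have hDsub : D ⊆ P0 := fun x hx => by
    rcases Finset.mem_symmDiff.1 hx with h | h
    · exact hS h.1
    · exact hT h.1
  have hsq : ∀ a : F.A, a * a = 1 := fun a => Subtype.ext (F.sq a.2)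
  have hprod : ∏ r ∈ D, g r = 1 := by
    have e1 : ∏ r ∈ S, g r = (∏ r ∈ S \ T, g r) * ∏ r ∈ S ∩ T, g r := by
      rw [← Finset.prod_union (Finset.disjoint_sdiff_inter S T), Finset.sdiff_union_inter]
    have e2 : ∏ r ∈ T, g r = (∏ r ∈ T \ S, g r) * ∏ r ∈ S ∩ T, g r := by
      rw [Finset.inter_comm, ← Finset.prod_union (Finset.disjoint_sdiff_inter T S), Finset.sdiff_union_inter]
    rw [e1, e2, mul_left_inj] at hST
    rw [hD, symmDiff_def, Finset.sup_eq_union, Finset.prod_union disjoint_sdiff_sdiff, hST, hsq]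
  refine ⟨D, Finset.nonempty_iff_ne_empty.2 fun h => hne (symmDiff_eq_bot.1 h), fun h => ?_, fun h => ?_,
    fun W r hr hW => ?_⟩
  · simpa [hP0] using hDsub h
  · simpa [hP0] using hDsub h
  · have hn : ∀ u ∈ D, none ≠ u := fun u hu e => by
      have := hDsub hu
      rw [hP0, ← e] at this
      simp at this
    rw [← Finset.mul_prod_erase D g hr] at hprod
    have h2 : (∏ u ∈ D.erase r, g u) ∈ W.subgroupOf F.A := by
      refine Subgroup.prod_mem _ fun u hu => ?_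
      rw [Finset.mem_erase] at hu
      show (g u : ↥G₀) ∈ W
      rw [show g u = ⟨F.P.tt none u, F.tt_mem (hn u hu.2)⟩ from dif_pos (hn u hu.2)]
      exact hW u hu.2 hu.1
    have h3 : g r ∈ W.subgroupOf F.A := by
      rw [eq_inv_of_mul_eq_one_left hprod]
      exact inv_mem h2
    rwa [show g r = ⟨F.P.tt none r, F.tt_mem (hn r hr)⟩ from dif_pos (hn r hr)] at h3

/-- `A` lies in any subgroup of index two of the centraliser of a pair containing the pair -/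
theorem A_le (F : Frame z Q) {p q : GolayPt} (hpq : p ≠ q)
    (K : Subgroup ↥(Subgroup.centralizer ({F.P.tt p q} : Set ↥G₀))) (hidx : K.index = 2)
    (htK : ∃ h, (⟨F.P.tt p q, h⟩ : ↥(Subgroup.centralizer ({F.P.tt p q} : Set ↥G₀))) ∈ K) :
    F.A ≤ K.map (Subgroup.centralizer ({F.P.tt p q} : Set ↥G₀)).subtype := by
  let C := Subgroup.centralizer ({F.P.tt p q} : Set ↥G₀)
  haveI : K.Normal := Subgroup.normal_of_index_eq_two hidx
  set Kg := K.map (Subgroup.centralizer ({F.P.tt p q} : Set ↥G₀)).subtype with hKg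
  have hAC : F.A ≤ C := fun a ha => Subgroup.mem_centralizer_singleton_iff.2 (F.comm ha (F.tt_mem hpq)).eq
  have hmul : ∀ {a b}, a ∈ F.A → b ∈ F.A → (a * b ∈ Kg ↔ (a ∈ Kg ↔ b ∈ Kg)) := by
    intro a b ha hb
    have h := Subgroup.mul_mem_iff_of_index_two hidx (a := (⟨a, hAC ha⟩ : C)) (b := ⟨b, hAC hb⟩)
    have hm : ∀ {x} (hx : x ∈ C), x ∈ Kg ↔ (⟨x, hx⟩ : C) ∈ K := fun {x} hx =>
      ⟨fun ⟨y, hy, e⟩ => by rwa [show (⟨x, hx⟩ : C) = y from Subtype.ext e.symm], fun h => ⟨_, h, rfl⟩⟩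
    rw [hm (mul_mem (hAC ha) (hAC hb)), hm (hAC ha), hm (hAC hb)]
    exact h
  have hmove : ∀ σ ∈ M24, σ p = p → σ q = q → ∀ u v, F.P.tt u v ∈ Kg → F.P.tt (σ u) (σ v) ∈ Kg := by
    intro σ hσ hp hq u v hKuv
    have hmC : (F.lift hσ : ↥G₀) ∈ C := by
      refine Subgroup.mem_centralizer_singleton_iff.2 (mul_inv_eq_iff_eq_mul.1 ?_)
      rw [F.P.equiv, F.φ_lift, hp, hq]
    obtain ⟨y, hy, e⟩ := hKuv
    exact ⟨_, (inferInstance : K.Normal).conj_mem y hy ⟨_, hmC⟩, by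
      simp only [map_mul, map_inv, Subgroup.coe_subtype, show ((y : C) : ↥G₀) = F.P.tt u v from e, F.P.equiv,
        F.φ_lift]⟩
  have htK' : F.P.tt p q ∈ Kg := by
    obtain ⟨h, hh⟩ := htK
    exact ⟨_, hh, rfl⟩
  -- pairs away from `p`, `q`
  have hout : ∀ r s, r ≠ s → r ≠ p → r ≠ q → s ≠ p → s ≠ q → F.P.tt r s ∈ Kg := by
    intro r s hrs hrp hrq hsp hsq
    obtain ⟨u, hu1, hu2, hu3⟩ : ∃ u, u ∉ ({p, q, r, s} : Finset GolayPt) ∧ True ∧ True := by
      obtain ⟨u, hu⟩ : ∃ u, u ∉ ({p, q, r, s} : Finset GolayPt) := by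
        by_contra h
        push Not at h
        have := Finset.eq_univ_iff_forall.2 h
        have h4 := Finset.card_le_four (a := p) (b := q) (c := r) (d := s)
        rw [this, Finset.card_univ] at h4
        simp [GolayPt] at h4
      exact ⟨u, hu, trivial, trivial⟩
    simp only [Finset.mem_insert, Finset.mem_singleton, not_or] at hu1
    obtain ⟨up, uq, ur, us⟩ := hu1
    have hnd : ∀ a b, a ≠ b → a ≠ p → a ≠ q → b ≠ p → b ≠ q → [p, q, a, b].Nodup := fun a b h1 h2 h3 h4 h5 => by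
      simp [hpq, h1, Ne.symm h2, Ne.symm h3, Ne.symm h4, Ne.symm h5]
    have hiff : ∀ a b a' b', a ≠ b → a ≠ p → a ≠ q → b ≠ p → b ≠ q → a' ≠ b' → a' ≠ p → a' ≠ q → b' ≠ p → b' ≠ q →
        F.P.tt a b ∈ Kg → F.P.tt a' b' ∈ Kg := by
      intro a b a' b' h1 h2 h3 h4 h5 g1 g2 g3 g4 g5 h
      obtain ⟨σ, hσ, e1, e2, e3, e4⟩ := exists_four (hnd a b h1 h2 h3 h4 h5) (hnd a' b' g1 g2 g3 g4 g5)
      have := hmove σ hσ e1 e2 a b h
      rwa [e3, e4] at this
    have e1 : F.P.tt r s ∈ Kg ↔ F.P.tt s u ∈ Kg :=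
      ⟨hiff r s s u hrs hrp hrq hsp hsq (Ne.symm us) hsp hsq up uq, hiff s u r s (Ne.symm us) hsp hsq up uq hrs hrp hrq hsp hsq⟩
    have e2 : F.P.tt r s ∈ Kg ↔ F.P.tt r u ∈ Kg :=
      ⟨hiff r s r u hrs hrp hrq hsp hsq (Ne.symm ur) hrp hrq up uq, hiff r u r s (Ne.symm ur) hrp hrq up uq hrs hrp hrq hsp hsq⟩
    have h := hmul (F.tt_mem hrs) (F.tt_mem (Ne.symm us))
    rw [F.triangle hrs (Ne.symm us) (Ne.symm ur), ← e1, ← e2] at h
    exact h.2 Iff.rfl
  -- pairs at one end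
  have hend : ∀ p' q', ((p' = p ∧ q' = q) ∨ (p' = q ∧ q' = p)) → ∀ x, x ≠ p → x ≠ q → F.P.tt p' x ∈ Kg := by
    intro p' q' hor x hxp hxq
    have hpq' : p' ≠ q' := by rcases hor with ⟨rfl, rfl⟩ | ⟨rfl, rfl⟩ <;> [exact hpq; exact hpq.symm]
    obtain ⟨S, ⟨r, hr⟩, hn, h0, hrel⟩ := F.exists_relation
    have hr0 : r ≠ some 0 := fun e => h0 (e ▸ hr)
    have hrn : r ≠ none := fun e => hn (e ▸ hr)
    obtain ⟨y, hy1, hy2, hy3⟩ := avoid none r (some 0)
    obtain ⟨e, he1, he2, he3⟩ := avoid p q x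
    have hx1 : x ≠ p' ∧ x ≠ q' ∧ e ≠ p' ∧ e ≠ q' := by
      rcases hor with ⟨rfl, rfl⟩ | ⟨rfl, rfl⟩ <;> exact ⟨by assumption, by assumption, by assumption, by assumption⟩
    obtain ⟨σ, hσ, s1, s2, s3, -⟩ := exists_four (a := none) (b := r) (c := some 0) (e := y)
      (a' := x) (b' := p') (c' := q') (e' := e)
      (by simp [hrn.symm, hr0, Ne.symm hy1, Ne.symm hy2, Ne.symm hy3])
      (by simp [hpq', hx1.1, hx1.2.1, Ne.symm hx1.2.2.1, Ne.symm hx1.2.2.2, Ne.symm he3])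
    have hcomap := hrel (Kg.comap (MulAut.conj (F.lift hσ : ↥G₀)).toMonoidHom) r hr fun u hu hur => by
      show _ * F.P.tt none u * _ ∈ Kg
      rw [F.P.equiv, F.φ_lift, s1]
      have hxu : σ u ≠ x := fun h => hn (by rwa [σ.injective (h.trans s1.symm)] at hu)
      have hp' : σ u ≠ p' := fun h => hur (σ.injective (h.trans s2.symm))
      have hq' : σ u ≠ q' := fun h => h0 (by rwa [σ.injective (h.trans s3.symm)] at hu)
      rcases hor with ⟨rfl, rfl⟩ | ⟨rfl, rfl⟩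
      · exact hout x (σ u) hxu.symm hxp hxq hp' hq'
      · exact hout x (σ u) hxu.symm hxp hxq hq' hp'
    rw [F.P.symm]
    change _ * F.P.tt none r * _ ∈ Kg at hcomap
    rwa [F.P.equiv, F.φ_lift, s1, s2] at hcomap
  refine F.duads_dense fun u v huv => ?_
  by_cases h1 : u = p ∨ u = q <;> by_cases h2 : v = p ∨ v = q
  · rcases h1 with rfl | rfl <;> rcases h2 with rfl | rfl
    · exact absurd rfl huv
    · exact htK'
    · rw [F.P.symm]; exact htK'
    · exact absurd rfl huv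
  · push Not at h2
    rcases h1 with rfl | rfl
    · exact hend u q (Or.inl ⟨rfl, rfl⟩) v h2.1 h2.2
    · exact hend u p (Or.inr ⟨rfl, rfl⟩) v h2.1 h2.2
  · push Not at h1
    rw [F.P.symm]
    rcases h2 with rfl | rfl
    · exact hend v q (Or.inl ⟨rfl, rfl⟩) u h1.1 h1.2
    · exact hend v p (Or.inr ⟨rfl, rfl⟩) u h1.1 h1.2
  · push Not at h1 h2
    exact hout u v huv h1.1 h1.2 h2.1 h2.2

end Frame

namespace Outer

variable (O : Outer F)

theorem ne {p q : GolayPt} (h : p ≠ q) : O.d p ≠ O.d q := fun e => (F.P.mem p q h).2.1 (Subtype.ext (by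
  rw [← O.prod p q h, ← e, O.sq]; rfl))

theorem comm_iff (m : Subgroup.normalizer (F.A : Set ↥G₀)) (p : GolayPt) :
    Commute ((m : ↥G₀) : X) (O.d p) ↔ F.P.φ m p = p := by
  constructor
  · intro h
    by_contra hne
    refine O.ne hne ?_
    rw [← O.equiv, h.eq, mul_inv_cancel_right]
  · intro h
    refine mul_inv_eq_iff_eq_mul.1 ?_
    rw [O.equiv, h]

/-- the point involution centralises the quasisimple part, which is all that centralises it -/
theorem centralizes (hidx : G₀.index = 2) {p q : GolayPt} (hpq : p ≠ q) {t : ↥G₀} (ht : t = F.P.tt p q)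
    (K : Subgroup ↥(Subgroup.centralizer ({t} : Set ↥G₀))) [K.Normal]
    (hchar : ∀ e : ↥(Subgroup.centralizer ({t} : Set ↥G₀)) ≃* ↥(Subgroup.centralizer ({t} : Set ↥G₀)),
      ∀ k ∈ K, e k ∈ K)
    (hK : Cfsg.IsQuasisimple ↥K) (hKidx : K.index = 2)
    (htK : ∃ h, (⟨t, h⟩ : ↥(Subgroup.centralizer ({t} : Set ↥G₀))) ∈ K)
    {S : Type*} [Group S] [Finite S] [IsSimpleGroup S] (hS : ∃ a b : S, a * b ≠ b * a)
    (π : ↥(Subgroup.centralizer ({t} : Set ↥G₀)) →* MulAut S) (hπ : Function.Surjective π)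
    (hker : π.ker = (Subgroup.zpowers t).subgroupOf (Subgroup.centralizer ({t} : Set ↥G₀))) :
    ∀ c : ↥(Subgroup.centralizer ({t} : Set ↥G₀)), c ∈ K ↔ Commute ((c : ↥G₀) : X) (O.d p) := by
  haveI := Subgroup.normal_of_index_eq_two hidx
  let C : Subgroup ↥G₀ := Subgroup.centralizer ({t} : Set ↥G₀)
  have hC : C = Subgroup.centralizer ({t} : Set ↥G₀) := rfl
  have hAK : F.A ≤ K.map (Subgroup.centralizer ({t} : Set ↥G₀)).subtype := by
    subst ht
    exact F.A_le hpq K hKidx htK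
  have htA : t ∈ F.A := ht ▸ F.tt_mem hpq
  have hd : Commute (O.d p) (t : X) := O.commA p t htA
  have hcen : π.ker ≤ Subgroup.center C := by
    rw [hker]
    intro c hc
    obtain ⟨n, hn⟩ := Subgroup.mem_zpowers_iff.1 (Subgroup.mem_subgroupOf.1 hc)
    refine Subgroup.mem_center_iff.2 fun x => Subtype.ext ?_
    have hx : Commute (x : ↥G₀) t := Subgroup.mem_centralizer_singleton_iff.1 x.2
    show (x : ↥G₀) * (c : ↥G₀) = (c : ↥G₀) * x
    rw [← hn]
    exact (hx.zpow_right n).eq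
  let α₀ : ↥G₀ ≃* ↥G₀ := MulAut.conjNormal (O.d p)
  have hα₀t : α₀ t = t := Subtype.ext (by
    rw [MulAut.conjNormal_apply, hd.eq, mul_inv_cancel_right])
  have hα₀ : ∀ x, x ∈ C ↔ α₀ x ∈ C := fun x => by
    rw [hC, Subgroup.mem_centralizer_singleton_iff, Subgroup.mem_centralizer_singleton_iff]
    constructor
    · intro h
      rw [← hα₀t, ← map_mul, ← map_mul, h]
    · intro h
      rw [← hα₀t, ← map_mul, ← map_mul] at h
      exact α₀.injective h
  have hmapC : C.map α₀.toMonoidHom = C := by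
    ext x
    constructor
    · rintro ⟨y, hy, rfl⟩; exact (hα₀ y).1 hy
    · intro hx
      obtain ⟨y, rfl⟩ := α₀.surjective x
      exact ⟨y, (hα₀ y).2 hx, rfl⟩
  let α : C ≃* C := (α₀.subgroupMap C).trans (MulEquiv.subgroupCongr hmapC)
  have hαv : ∀ x : C, ((α x : ↥G₀) : X) = O.d p * ((x : ↥G₀) : X) * (O.d p)⁻¹ := fun x => by
    show ((α₀ (x : ↥G₀) : ↥G₀) : X) = _
    exact MulAut.conjNormal_apply _ _
  obtain ⟨c, hc⟩ := realise hS hK π hπ hcen α (fun x hx => by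
    have hx' : x ∈ π.ker := hx
    rw [hker] at hx'
    obtain ⟨n, hn⟩ := Subgroup.mem_zpowers_iff.1 (Subgroup.mem_subgroupOf.1 hx')
    show α x ∈ π.ker
    rw [hker, Subgroup.mem_subgroupOf]
    refine ⟨n, Subtype.ext ?_⟩
    show ((t ^ n : ↥G₀) : X) = ((α x : ↥G₀) : X)
    rw [hαv, ← hn]
    push_cast
    rw [(hd.zpow_right n).eq, mul_inv_cancel_right]) (fun k hk => hchar α k hk)
  set δ : X := ((c : ↥G₀) : X)⁻¹ * O.d p with hδ
  have hδK : ∀ k ∈ K, Commute δ (((k : C) : ↥G₀) : X) := fun k hk => by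
    have e := congrArg (fun y : C => ((y : ↥G₀) : X)) (hc k hk)
    simp only [hαv, Subgroup.coe_mul, Subgroup.coe_inv] at e
    show δ * _ = _ * δ
    calc δ * (((k : C) : ↥G₀) : X) = ((c : ↥G₀) : X)⁻¹ * (O.d p * (((k : C) : ↥G₀) : X) * (O.d p)⁻¹) * O.d p := by
          rw [hδ]; group
      _ = _ := by rw [e, hδ]; group
  have hδA : ∀ a ∈ F.A, Commute δ (a : X) := fun a ha => by
    obtain ⟨k, hk, rfl⟩ := hAK ha
    exact hδK k hk
  have hδout : δ ∉ G₀ := fun h => O.out p (by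
    have := mul_mem (c : ↥G₀).2 h
    rwa [hδ, mul_inv_cancel_left] at this)
  obtain ⟨a, ha, ea⟩ := (O.full δ hδA).resolve_left hδout p
  -- an element of order eleven in the derived group
  have ht0 : (none : GolayPt) ≠ some 0 := by simp
  obtain ⟨σ, hσ, h1, h2⟩ : ∃ σ ∈ M24, σ none = p ∧ σ (some 0) = q := by
    obtain ⟨m, hm, e⟩ := F.P.transitive (F.tt_mem ht0) (F.tt_mem hpq) (F.P.mem _ _ ht0).2.1 (F.P.mem _ _ hpq).2.1
      (F.P.mem _ _ ht0).2.2 (F.P.mem _ _ hpq).2.2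
    rw [show m * F.P.tt none (some 0) * m⁻¹ = _ from F.P.equiv ⟨m, hm⟩ none (some 0)] at e
    rcases F.P.inj _ _ _ _ ((F.P.φ ⟨m, hm⟩).injective.ne ht0) hpq e with ⟨e1, e2⟩ | ⟨e1, e2⟩
    · exact ⟨_, F.φ_mem _, e1, e2⟩
    · exact ⟨_, mul_mem (F.φ_mem ⟨m, hm⟩) pW_mem, by rw [Equiv.Perm.mul_apply, pW_none, e2],
        by rw [Equiv.Perm.mul_apply, pW_zero, e1]⟩
  set n := F.lift hσ
  set mt := n * F.lift pT_mem * n⁻¹ with hmt
  set mh := n * F.lift pH_mem * n⁻¹ with hmh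
  have hφt : F.P.φ mt = σ * pT * σ⁻¹ := by rw [hmt, map_mul, map_mul, map_inv, F.φ_lift, F.φ_lift]
  have hφh : F.P.φ mh = σ * pH * σ⁻¹ := by rw [hmh, map_mul, map_mul, map_inv, F.φ_lift, F.φ_lift]
  have hfix : ∀ {m : Subgroup.normalizer (F.A : Set ↥G₀)} {τ : Equiv.Perm GolayPt}, F.P.φ m = σ * τ * σ⁻¹ →
      τ none = none → τ (some 0) = some 0 → (m : ↥G₀) ∈ C ∧ F.P.φ m p = p := by
    intro m τ hm hn h0
    have e1 : F.P.φ m p = p := by
      rw [hm, ← h1]; simp [hn]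
    have e2 : F.P.φ m q = q := by
      rw [hm, ← h2]; simp [h0]
    refine ⟨Subgroup.mem_centralizer_singleton_iff.2 (mul_inv_eq_iff_eq_mul.1 ?_), e1⟩
    rw [ht, F.P.equiv, e1, e2]
  obtain ⟨hmtC, hmtp⟩ := hfix hφt pT_none pT_zero
  obtain ⟨hmhC, hmhp⟩ := hfix hφh pH_none pH_zero
  have hc1 : (⁅(⟨_, hmtC⟩ : C), ⟨_, hmhC⟩⁆ : C) ∈ K := by
    rw [commutatorElement_def]
    simp only [Subgroup.mul_mem_iff_of_index_two hKidx, inv_mem_iff]
    tauto
  set c1 : Subgroup.normalizer (F.A : Set ↥G₀) := ⁅mt, mh⁆ with hc1def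
  have hφc : F.P.φ (c1 ^ 6) = σ * pH * σ⁻¹ := by
    rw [map_pow, hc1def, map_commutatorElement, hφt, hφh, commutatorElement_def]
    rw [show σ * pT * σ⁻¹ * (σ * pH * σ⁻¹) * (σ * pT * σ⁻¹)⁻¹ * (σ * pH * σ⁻¹)⁻¹ =
      σ * (pT * pH * pT⁻¹ * pH⁻¹) * σ⁻¹ by group, conj_pow, TH_rel, mul_inv_cancel_right]
    rw [show (pH ^ 3 * pH⁻¹ : Equiv.Perm GolayPt) = pH ^ 2 by group, ← pow_mul,
      show 2 * 6 = 11 + 1 from rfl, pow_succ, pH_order, one_mul]
  have hc6 : Commute δ (((c1 ^ 6 : Subgroup.normalizer (F.A : Set ↥G₀)) : ↥G₀) : X) := by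
    have := hδK _ (pow_mem hc1 6)
    simpa [hc1def, commutatorElement_def] using this
  have hp6 : Commute (((c1 ^ 6 : Subgroup.normalizer (F.A : Set ↥G₀)) : ↥G₀) : X) (O.d p) := by
    rw [O.comm_iff, hφc, ← h1]
    simp [pH_none]
  have hafix : Commute (a : X) (((c1 ^ 6 : Subgroup.normalizer (F.A : Set ↥G₀)) : ↥G₀) : X) := by
    rw [show (a : X) = O.d p * δ by rw [ea, ← mul_assoc, O.sq, one_mul]]
    exact hp6.symm.mul_left hc6
  have hcase : a = 1 ∨ a = t := by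
    have e0 : ((n⁻¹ : Subgroup.normalizer (F.A : Set ↥G₀)) : ↥G₀) * a *
        ((n⁻¹ : Subgroup.normalizer (F.A : Set ↥G₀)) : ↥G₀)⁻¹ ∈ F.A := F.conj_A _ ha
    set b := ((n⁻¹ : Subgroup.normalizer (F.A : Set ↥G₀)) : ↥G₀) * a *
        ((n⁻¹ : Subgroup.normalizer (F.A : Set ↥G₀)) : ↥G₀)⁻¹ with hb
    have hm : F.P.φ (n⁻¹ * c1 ^ 6 * n) = pH := by
      rw [map_mul, map_mul, map_inv, F.φ_lift, hφc]
      group
    have hbfix : ((n⁻¹ * c1 ^ 6 * n : Subgroup.normalizer (F.A : Set ↥G₀)) : ↥G₀) * b *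
        ((n⁻¹ * c1 ^ 6 * n : Subgroup.normalizer (F.A : Set ↥G₀)) : ↥G₀)⁻¹ = b := by
      have hac : ((c1 ^ 6 : Subgroup.normalizer (F.A : Set ↥G₀)) : ↥G₀) * a = a * (c1 ^ 6 : Subgroup.normalizer (F.A : Set ↥G₀)) :=
        Subtype.ext hafix.eq.symm
      simp only [Subgroup.coe_mul, Subgroup.coe_inv] at hb ⊢
      rw [hb]
      calc _ = (n : ↥G₀)⁻¹ * (((c1 ^ 6 : Subgroup.normalizer (F.A : Set ↥G₀)) : ↥G₀) * a) *
            ((c1 ^ 6 : Subgroup.normalizer (F.A : Set ↥G₀)) : ↥G₀)⁻¹ * (n : ↥G₀) := by group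
        _ = _ := by rw [hac]; group
    have hback : a = (n : ↥G₀) * b * (n : ↥G₀)⁻¹ := by simp [hb, mul_assoc]
    rcases F.fixed_H hm e0 hbfix with h | h
    · exact Or.inl (by rw [hback, h]; simp)
    · exact Or.inr (by rw [hback, h, F.P.equiv, F.φ_lift, h1, h2, ← ht])
  -- conclusion
  have hdir : ∀ x : C, x ∈ K → Commute ((x : ↥G₀) : X) (O.d p) := fun x hx => by
    have hxt : Commute ((x : ↥G₀) : X) (t : X) :=
      (congrArg Subtype.val (Subgroup.mem_centralizer_singleton_iff.1 x.2) : _)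
    rw [show O.d p = δ * (a : X)⁻¹ by rw [ea, mul_inv_cancel_right]]
    refine (hδK x hx).symm.mul_right ?_
    rcases hcase with rfl | rfl
    · simp
    · exact hxt.inv_right
  obtain ⟨m, hm1, hm2⟩ : ∃ m : Subgroup.normalizer (F.A : Set ↥G₀), F.P.φ m p = q ∧ F.P.φ m q = p := by
    refine ⟨n * F.lift pW_mem * n⁻¹, ?_, ?_⟩ <;> rw [map_mul, map_mul, map_inv, F.φ_lift, F.φ_lift]
    · rw [← h1, ← h2]; simp [pW_none]
    · rw [← h1, ← h2]; simp [pW_zero]
  have hmC : (m : ↥G₀) ∈ C := Subgroup.mem_centralizer_singleton_iff.2 (mul_inv_eq_iff_eq_mul.1 (by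
    rw [ht, F.P.equiv, hm1, hm2, F.P.symm]))
  have hmd : ¬ Commute ((m : ↥G₀) : X) (O.d p) := fun h => hpq (((O.comm_iff m p).1 h).symm.trans hm1)
  intro x
  refine ⟨hdir x, fun h => ?_⟩
  by_contra hx
  have hmK : (⟨_, hmC⟩ : C) ∉ K := fun hk => hmd (hdir _ hk)
  have := hdir _ ((Subgroup.mul_mem_iff_of_index_two hKidx (a := x) (b := ⟨_, hmC⟩)).2 (iff_of_false hx hmK))
  refine hmd ?_
  have h2 := h.inv_left.mul_left this
  simpa using h2

end Outer

end Cfsg.Agent.Lib.FischerLarge75
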