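import Cfsg.Agent.Lib.FischerLarge75.Assemble
import Cfsg.Agent.Lib.FischerMTypes.InvolutionsM23
import Cfsg.Agent.Lib.FischerMTypes.TypeM23

/-!
# Fusion of the point involution with its conjugates that commute with it

`d = d p`, `Y = C_{G₀}(d)`, `S` = the class of the pairs at `p`: a conjugate of `d` commuting with `d` is `d`
or `d * s`, and the products of three commuting members of `S` are conjugate to `z`.

Owner: helper75.
-/

set_option autoImplicit false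
set_option linter.style.haveILetI false
set_option linter.unusedSectionVars false

namespace Cfsg.Agent.Lib.FischerLarge75

open Cfsg Cfsg.Agent.Lib.LargeFischer13 Cfsg.Agent.Lib.FischerMTypes

universe u

variable {X : Type u} [Group X] [Finite X] {G₀ : Subgroup X} {z : ↥G₀} {Q : Subgroup (Cz z)} [Q.Normal]
variable {F : Frame z Q}

namespace Frame

/-- `A` is the only elementary subgroup of its order in each two-group above it -/
theorem max_any {G : Type u} [Group G] [Finite G] {z : G} {Q : Subgroup (Cz z)} [Q.Normal] (F : Frame z Q)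
    {P : Subgroup G} (hP : IsPGroup 2 P) (hAP : F.A ≤ P) {B : Subgroup G} (hB : B ≤ P)
    (hsq : ∀ b ∈ B, b * b = 1) (hcard : Nat.card F.A ≤ Nat.card B) : B = F.A := by
  haveI : Fact (Nat.Prime 2) := ⟨Nat.prime_two⟩
  obtain ⟨T', hT'⟩ := hP.exists_le_sylow
  obtain ⟨k, hk⟩ := MulAction.exists_smul_eq G T' F.T
  set e : G ≃* G := MulAut.conj k with he
  have hmem : ∀ x ∈ P, e x ∈ (F.T : Subgroup G) := fun x hx => by
    rw [← hk]
    exact ⟨x, hT' hx, rfl⟩
  have key : ∀ B : Subgroup G, B ≤ P → (∀ b ∈ B, b * b = 1) → Nat.card F.A ≤ Nat.card B →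
      B.map e.toMonoidHom = F.A := fun B hB hsq hcard => by
    refine F.max.2.2 _ ?_ ?_ ?_
    · rintro _ ⟨b, hb, rfl⟩
      exact hmem b (hB hb)
    · rintro _ ⟨b, hb, rfl⟩
      rw [← map_mul, hsq b hb, map_one]
    · rw [Subgroup.card_map_of_injective e.injective]
      exact hcard
  exact Subgroup.map_injective e.injective
    ((key B hB hsq hcard).trans (key F.A hAP (fun a ha => F.sq ha) le_rfl).symm)

end Frame

namespace Outer

variable (O : Outer F)

/-- a product of three points is not conjugate to a point -/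
theorem triple_not_conj (hidx : G₀.index = 2) {p a b c : GolayPt} (hab : a ≠ b) (hac : a ≠ c) (hbc : b ≠ c) :
    ¬ IsConj (O.d p) (O.d a * O.d b * O.d c) := by
  classical
  haveI := Subgroup.normal_of_index_eq_two hidx
  haveI : Fact (Nat.Prime 2) := ⟨Nat.prime_two⟩
  intro hconj
  obtain ⟨g, hg⟩ := isConj_iff.1 hconj
  set e := O.d a * O.d b * O.d c with he
  set Hg : Subgroup ↥G₀ := (Subgroup.centralizer ({O.d p} : Set X)).comap G₀.subtype
  have hHg : ∀ x : ↥G₀, x ∈ Hg ↔ (x : X) * O.d p = O.d p * (x : X) := fun x =>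
    Subgroup.mem_centralizer_singleton_iff
  have hAH : F.A ≤ Hg := fun x hx => (hHg x).2 (O.commA p x hx).eq.symm
  set B := F.A.map (MulAut.conjNormal g⁻¹ : MulAut ↥G₀).toMonoidHom with hB
  have hBH : B ≤ Hg := by
    rintro _ ⟨x, hx, rfl⟩
    rw [hHg]
    show ((MulAut.conjNormal g⁻¹ x : ↥G₀) : X) * _ = _ * ((MulAut.conjNormal g⁻¹ x : ↥G₀) : X)
    rw [MulAut.conjNormal_apply, inv_inv]
    have h1 : Commute (x : X) e :=
      ((O.commA a x hx).symm.mul_right (O.commA b x hx).symm).mul_right (O.commA c x hx).symm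
    have hd : O.d p = g⁻¹ * e * g := by rw [← hg]; group
    rw [hd]
    calc g⁻¹ * (x : X) * g * (g⁻¹ * e * g) = g⁻¹ * ((x : X) * e) * g := by group
      _ = _ := by rw [h1.eq]; group
  have hBsq : ∀ x ∈ B, x * x = 1 := by
    rintro _ ⟨x, hx, rfl⟩
    rw [← map_mul, F.sq hx, map_one]
  have hBcard : Nat.card F.A ≤ Nat.card B :=
    (Subgroup.card_map_of_injective (f := (MulAut.conjNormal g⁻¹ : MulAut ↥G₀).toMonoidHom)
      (MulEquiv.injective _)).ge
  have hp2 : ∀ {W : Subgroup ↥G₀}, (∀ x ∈ W, x * x = 1) → IsPGroup 2 (W.subgroupOf Hg) := fun {W} hW x =>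
    ⟨1, Subtype.ext (Subtype.ext (by
      rw [pow_one, pow_two]
      exact hW _ x.2))⟩
  obtain ⟨P, hP⟩ := (hp2 fun x hx => F.sq hx).exists_le_sylow
  obtain ⟨P', hP'⟩ := (hp2 hBsq).exists_le_sylow
  obtain ⟨h, hh⟩ := MulAction.exists_smul_eq Hg P' P
  set P₀ := (P : Subgroup Hg).map Hg.subtype with hP₀
  have hP₀2 : IsPGroup 2 P₀ := P.isPGroup'.map _
  have hAP : F.A ≤ P₀ := fun x hx => ⟨⟨x, hAH hx⟩, hP (Subgroup.mem_subgroupOf.2 hx), rfl⟩
  have hB' : B.map (MulAut.conj (h : ↥G₀)).toMonoidHom = F.A := by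
    refine F.max_any hP₀2 hAP ?_ ?_ ?_
    · rintro _ ⟨x, hx, rfl⟩
      refine ⟨h * ⟨x, hBH hx⟩ * h⁻¹, ?_, by simp⟩
      rw [← hh]
      exact ⟨_, hP' (Subgroup.mem_subgroupOf.2 hx), rfl⟩
    · rintro _ ⟨x, hx, rfl⟩
      rw [← map_mul, hBsq x hx, map_one]
    · rw [Subgroup.card_map_of_injective (f := (MulAut.conj (h : ↥G₀)).toMonoidHom) (MulEquiv.injective _)]
      exact hBcard
  set g' : X := g * ((h : ↥G₀) : X)⁻¹ with hg'
  have hg'd : g' * O.d p * g'⁻¹ = e := by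
    have hc : ((h : ↥G₀) : X)⁻¹ * O.d p * ((h : ↥G₀) : X) = O.d p := by
      rw [mul_assoc, ← (hHg _).1 h.2, inv_mul_cancel_left]
    rw [← hg, hg']
    calc _ = g * (((h : ↥G₀) : X)⁻¹ * O.d p * ((h : ↥G₀) : X)) * g⁻¹ := by group
      _ = _ := by rw [hc]
  obtain ⟨g'', hG, hd, hn⟩ : ∃ g'' ∈ G₀, g'' * O.d p * g''⁻¹ = e ∧
      ∀ x ∈ F.A, ∃ y ∈ F.A, g''⁻¹ * (x : X) * g'' = (y : X) := by
    have hn' : ∀ x ∈ F.A, ∃ y ∈ F.A, g'⁻¹ * (x : X) * g' = (y : X) := fun x hx => by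
      refine ⟨_, hB'.le ⟨_, ⟨x, hx, rfl⟩, rfl⟩, ?_⟩
      simp [hg', MulAut.conjNormal_apply, mul_assoc]
    by_cases hG : g' ∈ G₀
    · exact ⟨g', hG, hg'd, hn'⟩
    · refine ⟨g' * O.d p, (Subgroup.mul_mem_iff_of_index_two hidx).2 (iff_of_false hG (O.out p)), ?_, fun x hx => ?_⟩
      · rw [← hg'd]; group
      · obtain ⟨y, hy, ey⟩ := hn' x hx
        refine ⟨y, hy, ?_⟩
        calc (g' * O.d p)⁻¹ * (x : X) * (g' * O.d p) = (O.d p)⁻¹ * (g'⁻¹ * (x : X) * g') * O.d p := by group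
          _ = (O.d p)⁻¹ * ((y : X) * O.d p) := by rw [ey, mul_assoc]
          _ = _ := by rw [← (O.commA p y hy).eq, inv_mul_cancel_left]
  have hN : (⟨g'', hG⟩ : ↥G₀) ∈ Subgroup.normalizer (F.A : Set ↥G₀) := by
    rw [← inv_mem_iff]
    have hle : F.A.map (MulAut.conj (⟨g'', hG⟩ : ↥G₀)⁻¹).toMonoidHom = F.A := by
      refine Subgroup.eq_of_le_of_card_ge ?_ (Subgroup.card_map_of_injective (MulEquiv.injective _)).ge
      rintro _ ⟨x, hx, rfl⟩
      obtain ⟨y, hy, ey⟩ := hn x hx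
      rw [show (MulAut.conj (⟨g'', hG⟩ : ↥G₀)⁻¹).toMonoidHom x = y from Subtype.ext (by simpa using ey)]
      exact hy
    refine Subgroup.mem_normalizer_iff.2 fun x => ?_
    constructor
    · intro hx
      exact hle.le ⟨x, hx, rfl⟩
    · intro hx
      obtain ⟨y, hy, ey⟩ := hle.ge hx
      have : x = y := (MulAut.conj (⟨g'', hG⟩ : ↥G₀)⁻¹).injective (by
        rw [MulAut.conj_apply]; exact ey.symm)
      exact this ▸ hy
  have heq := O.equiv ⟨_, hN⟩ p
  rw [show (((⟨⟨g'', hG⟩, hN⟩ : Subgroup.normalizer (F.A : Set ↥G₀)) : ↥G₀) : X) = g'' from rfl, hd, he] at heq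
  set s := F.P.φ ⟨_, hN⟩ p
  have h2 : O.d a * O.d b = O.d s * O.d c := by rw [← heq, mul_assoc _ (O.d c), O.sq, mul_one]
  by_cases hsc : s = c
  · rw [hsc, O.sq, O.prod a b hab] at h2
    exact (F.P.mem a b hab).2.1 (Subtype.ext h2)
  · rw [O.prod a b hab, O.prod s c hsc] at h2
    rcases F.P.inj _ _ _ _ hab hsc (Subtype.ext h2) with ⟨-, e2⟩ | ⟨e1, -⟩
    · exact hbc e2
    · exact hac e1

/-- the fusion facts at the point involution -/
theorem fusion (hidx : G₀.index = 2) {p q : GolayPt} (hpq : p ≠ q)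
    (t : ↥(G₀ ⊓ Subgroup.centralizer ({O.d p} : Set X))) (htv : (t : X) = (F.P.tt p q : X))
    (hcl : Cfsg.IsThreeTranspositionClass (conjugatesOf t))
    (hM : Cfsg.IsOfTypeM23 ↥(G₀ ⊓ Subgroup.centralizer ({O.d p} : Set X)) (conjugatesOf t)) :
    Cfsg.IsPrimitiveUnderConj (conjugatesOf t) ∧
    (z : X) ∈ G₀ ⊓ Subgroup.centralizer ({O.d p} : Set X) ∧
    (∀ s ∈ conjugatesOf t, IsConj (O.d p) (O.d p * (s : X))) ∧
    (∀ g : X, Commute (O.d p) (g * O.d p * g⁻¹) →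
      g * O.d p * g⁻¹ = O.d p ∨ ∃ s ∈ conjugatesOf t, g * O.d p * g⁻¹ = O.d p * (s : X)) ∧
    ∀ y : ↥(G₀ ⊓ Subgroup.centralizer ({O.d p} : Set X)),
      Step.IsProd (conjugatesOf t) 3 y → IsConj (z : X) (y : X) := by
  classical
  let Y : Subgroup X := G₀ ⊓ Subgroup.centralizer ({O.d p} : Set X)
  have hmemY : ∀ x : ↥G₀, Commute (x : X) (O.d p) → (x : X) ∈ Y := fun x hx =>
    Subgroup.mem_inf.2 ⟨x.2, Subgroup.mem_centralizer_singleton_iff.2 hx.eq⟩
  have hcY : ∀ y : Y, Commute (y : X) (O.d p) := fun y =>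
    Subgroup.mem_centralizer_singleton_iff.1 (Subgroup.mem_inf.1 y.2).2
  -- the pairs at `p`
  let tR : {r : GolayPt // p ≠ r} → Y := fun r =>
    ⟨(F.P.tt p r : X), hmemY _ (O.commA p _ (F.tt_mem r.2)).symm⟩
  have htRv : ∀ r, ((tR r : Y) : X) = O.d p * O.d r.1 := fun r => (O.prod p r.1 r.2).symm
  have htR : ∀ r, tR r ∈ conjugatesOf t := by
    rintro ⟨r, hr⟩
    obtain ⟨x, hx1, hx2, hx3⟩ := avoid p q r
    obtain ⟨y, hy1, hy2, hy3⟩ := avoid p r x
    obtain ⟨y', hy1', hy2', hy3'⟩ := avoid p q x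
    obtain ⟨σ, hσ, s1, s2, -, -⟩ := exists_four (a := p) (b := q) (c := x) (e := y')
      (a' := p) (b' := r) (c' := x) (e' := y)
      (by simp [hpq, Ne.symm hx1, Ne.symm hx2, Ne.symm hy1', Ne.symm hy2', Ne.symm hy3'])
      (by simp [hr, Ne.symm hx1, Ne.symm hx3, Ne.symm hy1, Ne.symm hy2, Ne.symm hy3])
    have hmd : Commute ((F.lift hσ : ↥G₀) : X) (O.d p) := (O.comm_iff _ p).2 (by rw [F.φ_lift, s1])
    refine isConj_iff.2 ⟨⟨_, hmemY _ hmd⟩, Subtype.ext ?_⟩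
    have := F.P.equiv (F.lift hσ) p q
    rw [F.φ_lift, s1, s2] at this
    show ((F.lift hσ : ↥G₀) : X) * (t : X) * ((F.lift hσ : ↥G₀) : X)⁻¹ = (F.P.tt p r : X)
    rw [htv, ← this]
    simp
  have htRinj : ∀ r r', tR r = tR r' → r = r' := fun r r' h => by
    have h' : F.P.tt p r.1 = F.P.tt p r'.1 := Subtype.ext (congrArg Subtype.val h :)
    rcases F.P.inj _ _ _ _ r.2 r'.2 h' with ⟨-, e⟩ | ⟨e, -⟩
    · exact Subtype.ext e
    · exact absurd e r'.2
  have htRcomm : ∀ r r', Commute (tR r) (tR r') := fun r r' =>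
    Subtype.ext ((F.comm (F.tt_mem r.2) (F.tt_mem r'.2)).map G₀.subtype).eq
  have hprod : ∀ l : List {r : GolayPt // p ≠ r}, l.Nodup →
      Step.IsProd (conjugatesOf t) l.length (l.map tR).prod := fun l hl =>
    ⟨l.map tR, hl.map fun a b h => htRinj a b h, l.length_map _,
      fun a ha => by obtain ⟨r, -, rfl⟩ := List.mem_map.1 ha; exact htR r,
      fun a ha b hb => by
        obtain ⟨r, -, rfl⟩ := List.mem_map.1 ha
        obtain ⟨r', -, rfl⟩ := List.mem_map.1 hb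
        exact htRcomm r r', rfl⟩
  have hD : Cfsg.IsThreeTranspositionGroup (conjugatesOf t) := by
    refine ⟨hcl.1, fun g x hx => ?_, hcl.2.2⟩
    exact IsConj.trans hx (isConj_iff.2 ⟨g, rfl⟩)
  have hprim := TypeM23.primitive_of_M23 hD hM
  obtain ⟨Q', iQ, iQ', E, K, iK, iK', S22, ⟨S⟩⟩ := M23Data.exists_step hD hprim hM
  obtain ⟨hcls, hone, huniq⟩ := InvolutionsM23.three_classes hD hprim hM S22 S
  -- three points different from `p`
  obtain ⟨r₁, hr₁, -, -⟩ := avoid p p p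
  obtain ⟨r₂, hr₂, hr₂1, -⟩ := avoid p r₁ r₁
  obtain ⟨r₃, hr₃, hr₃1, hr₃2⟩ := avoid p r₁ r₂
  set u₁ : {r : GolayPt // p ≠ r} := ⟨r₁, Ne.symm hr₁⟩
  set u₂ : {r : GolayPt // p ≠ r} := ⟨r₂, Ne.symm hr₂⟩
  set u₃ : {r : GolayPt // p ≠ r} := ⟨r₃, Ne.symm hr₃⟩
  have hn2 : [u₁, u₂].Nodup := by simp [u₁, u₂, Ne.symm hr₂1]
  have hn3 : [u₁, u₂, u₃].Nodup := by simp [u₁, u₂, u₃, Ne.symm hr₂1, Ne.symm hr₃1, Ne.symm hr₃2]
  have hp2 := hprod _ hn2
  have hp3 := hprod _ hn3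
  have hv2 : O.d p * ((([u₁, u₂].map tR).prod : Y) : X) = O.d r₁ * O.d p * O.d r₂ := by
    simp only [List.map_cons, List.map_nil, List.prod_cons, List.prod_nil, mul_one, Subgroup.coe_mul, htRv, u₁, u₂]
    rw [← mul_assoc (O.d p) (O.d p * O.d r₁), ← mul_assoc (O.d p) (O.d p), O.sq, one_mul, ← mul_assoc]
  have hv3 : O.d p * ((([u₁, u₂, u₃].map tR).prod : Y) : X) = O.d r₁ * O.d r₂ * O.d r₃ := by
    simp only [List.map_cons, List.map_nil, List.prod_cons, List.prod_nil, mul_one, Subgroup.coe_mul, htRv, u₁, u₂,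
      u₃]
    rw [← mul_assoc (O.d p) (O.d p * O.d r₁), ← mul_assoc (O.d p) (O.d p), O.sq, one_mul,
      (O.comm r₂ p).mul_mul_mul_comm, O.sq, one_mul, ← mul_assoc]
  refine ⟨hprim, hmemY z (O.commA p z F.zA).symm, ?_, ?_, ?_⟩
  · intro s hs
    obtain ⟨h, rfl⟩ := isConj_iff.1 hs
    obtain ⟨r, hr1, hr2, -⟩ := avoid p q q
    obtain ⟨x, hx1, hx2, hx3⟩ := avoid p q r
    obtain ⟨σ, hσ, e1, -, -, -⟩ := exists_four (a := p) (b := q) (c := r) (e := x)
      (a' := q) (b' := p) (c' := r) (e' := x)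
      (by simp [hpq, Ne.symm hr1, Ne.symm hr2, Ne.symm hx1, Ne.symm hx2, Ne.symm hx3])
      (by simp [Ne.symm hpq, Ne.symm hr1, Ne.symm hr2, Ne.symm hx1, Ne.symm hx2, Ne.symm hx3])
    have h1 : IsConj (O.d p) (O.d q) :=
      isConj_iff.2 ⟨((F.lift hσ : ↥G₀) : X), by rw [O.equiv, F.φ_lift, e1]⟩
    refine h1.trans (isConj_iff.2 ⟨(h : X), ?_⟩)
    have hh : Commute (h : X) (O.d p) := hcY h
    rw [show O.d q = O.d p * (t : X) by rw [htv, ← O.prod p q hpq, ← mul_assoc, O.sq, one_mul]]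
    show (h : X) * (O.d p * (t : X)) * (h : X)⁻¹ = O.d p * ((h : X) * (t : X) * (h : X)⁻¹)
    rw [← mul_assoc, hh.eq]
    group
  · intro g hg
    set e := g * O.d p * g⁻¹ with he
    by_cases hne : e = O.d p
    · exact Or.inl hne
    refine Or.inr ?_
    haveI := Subgroup.normal_of_index_eq_two hidx
    have heG : e ∉ G₀ := fun h => O.out p (by
      simpa [he, mul_assoc] using Subgroup.Normal.conj_mem inferInstance e h g⁻¹)
    have hee : e * e = 1 := by
      rw [he, conj_mul, O.sq]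
      group
    set x : Y := ⟨O.d p * e, Subgroup.mem_inf.2 ⟨(Subgroup.mul_mem_iff_of_index_two hidx).2
      (iff_of_false (O.out p) heG), Subgroup.mem_centralizer_singleton_iff.2
        ((Commute.refl (O.d p)).mul_right hg).symm.eq⟩⟩ with hx
    have hex : e = O.d p * (x : X) := by
      show e = O.d p * (O.d p * e)
      rw [← mul_assoc, O.sq, one_mul]
    have hx2 : orderOf x = 2 := by
      refine orderOf_eq_prime (Subtype.ext ?_) fun h => hne ?_
      · rw [pow_two]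
        show O.d p * e * (O.d p * e) = 1
        rw [hg.symm.mul_mul_mul_comm, O.sq, hee, one_mul]
      · rw [hex, show (x : X) = 1 from congrArg Subtype.val h, mul_one]
    have htriple : ∀ (y : Y) (a b c : GolayPt), a ≠ b → a ≠ c → b ≠ c → IsConj x y →
        O.d p * (y : X) = O.d a * O.d b * O.d c → False := by
      intro y a b c hab hac hbc hxy hy
      obtain ⟨h, hh⟩ := isConj_iff.1 hxy
      refine O.triple_not_conj hidx (p := p) hab hac hbc (isConj_iff.2 ⟨(h : X) * g, ?_⟩)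
      have hc : Commute (h : X) (O.d p) := hcY h
      rw [← hy, show (y : X) = (h : X) * (x : X) * (h : X)⁻¹ from (congrArg Subtype.val hh).symm]
      calc (h : X) * g * O.d p * ((h : X) * g)⁻¹ = (h : X) * e * (h : X)⁻¹ := by rw [he]; group
        _ = ((h : X) * O.d p) * (x : X) * (h : X)⁻¹ := by rw [hex]; group
        _ = _ := by rw [hc.eq]; group
    obtain ⟨m, hm1, hm3, hm⟩ := hcls x hx2
    interval_cases m
    · obtain ⟨l, -, hl, hlD, -, hlp⟩ := hm
      obtain ⟨s, rfl⟩ := List.length_eq_one_iff.1 hl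
      refine ⟨s, hlD s (by simp), ?_⟩
      rw [hex, ← hlp, List.prod_singleton]
    · exact (htriple _ r₁ p r₂ hr₁ (Ne.symm hr₂1) (Ne.symm hr₂)
        ((hone 2 (by norm_num) (by norm_num)).2 x _ hm hp2) hv2).elim
    · exact (htriple _ r₁ r₂ r₃ (Ne.symm hr₂1) (Ne.symm hr₃1) (Ne.symm hr₃2)
        ((hone 3 (by norm_num) (by norm_num)).2 x _ hm hp3) hv3).elim
  · intro y hy
    set y₃ : Y := ([u₁, u₂, u₃].map tR).prod with hy₃
    obtain ⟨h, hh⟩ := isConj_iff.1 ((hone 3 (by norm_num) (by norm_num)).2 y y₃ hy hp3)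
    refine IsConj.trans (b := (y₃ : X)) ?_
      (isConj_iff.2 ⟨(h : X), congrArg Subtype.val hh⟩ : IsConj (y : X) (y₃ : X)).symm
    set v : ↥G₀ := F.P.tt p r₁ * (F.P.tt p r₂ * F.P.tt p r₃) with hv
    have hvA : v ∈ F.A := mul_mem (F.tt_mem u₁.2) (mul_mem (F.tt_mem u₂.2) (F.tt_mem u₃.2))
    have hvy : (v : X) = (y₃ : X) := by
      simp [hy₃, hv, tR, u₁, u₂, u₃]
    rw [← hvy]
    suffices IsConj z v from G₀.subtype.map_isConj this
    by_contra hzv
    obtain ⟨⟨x, hx2, hx⟩, hxall⟩ := hone 3 (by norm_num) (by norm_num)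
    obtain ⟨k, hk⟩ := isConj_iff.1 (hxall x y₃ hx hp3)
    have hv1 : v ≠ 1 := fun h1 => by
      have hy1 : y₃ = 1 := Subtype.ext (by rw [← hvy, h1]; rfl)
      rw [hy1, mul_inv_eq_one, mul_eq_left] at hk
      rw [hk, orderOf_one] at hx2
      omega
    obtain ⟨a, b, hab, e⟩ := F.P.surj v hvA hv1 hzv
    by_cases hap : a = p
    · subst hap
      have he : y₃ = ([(⟨b, hab⟩ : {r : GolayPt // a ≠ r})].map tR).prod := Subtype.ext (by
        rw [← hvy, ← e]; simp [tR])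
      exact absurd (huniq 3 1 y₃ (by norm_num) (by norm_num) le_rfl (by norm_num) hp3
        (by rw [he]; exact hprod [_] (List.nodup_singleton _))) (by norm_num)
    by_cases hbp : b = p
    · subst hbp
      have he : y₃ = ([(⟨a, Ne.symm hap⟩ : {r : GolayPt // b ≠ r})].map tR).prod := Subtype.ext (by
        rw [← hvy, ← e, F.P.symm a b]; simp [tR])
      exact absurd (huniq 3 1 y₃ (by norm_num) (by norm_num) le_rfl (by norm_num) hp3
        (by rw [he]; exact hprod [_] (List.nodup_singleton _))) (by norm_num)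
    · have he : y₃ = ([(⟨a, Ne.symm hap⟩ : {r : GolayPt // p ≠ r}), ⟨b, Ne.symm hbp⟩].map tR).prod := Subtype.ext (by
        rw [← hvy, ← e, ← F.triangle (q := p) hap (Ne.symm hbp) hab, F.P.symm a p]; simp [tR])
      exact absurd (huniq 3 2 y₃ (by norm_num) (by norm_num) (by norm_num) (by norm_num) hp3
        (by rw [he]; exact hprod [_, _] (by simp [hab]))) (by norm_num)

end Outer

/-- the point involution with its class of transpositions: the input of the recognition of type M(24) -/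
theorem exists_bridge (h5450 : PairCentraliser.{u}) (h5402 : TypeFromCentraliser.{u}) (hidx : G₀.index = 2)
    (hF : Cfsg.IsOfLargeFischerTypeAt z Q)
    (hFX : (Cfsg.generalizedFittingSubgroup ↥(Subgroup.centralizer ({(z : X)} : Set X))).map (Subgroup.subtype _) =
      ((Q.map (Subgroup.subtype _)).map G₀.subtype)) :
    ∃ d : X, orderOf d = 2 ∧ d ∉ G₀ ∧ Commute d (z : X) ∧
      ∃ S : Set ↥(G₀ ⊓ Subgroup.centralizer ({d} : Set X)),
        Cfsg.IsThreeTranspositionGroup S ∧ Cfsg.IsPrimitiveUnderConj S ∧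
        Cfsg.IsOfTypeM23 ↥(G₀ ⊓ Subgroup.centralizer ({d} : Set X)) S ∧
        (z : X) ∈ G₀ ⊓ Subgroup.centralizer ({d} : Set X) ∧
        (∀ s ∈ S, IsConj d (d * (s : X))) ∧
        (∀ g : X, Commute d (g * d * g⁻¹) → g * d * g⁻¹ = d ∨ ∃ s ∈ S, g * d * g⁻¹ = d * (s : X)) ∧
        ∀ y : ↥(G₀ ⊓ Subgroup.centralizer ({d} : Set X)), Step.IsProd S 3 y → IsConj (z : X) (y : X) := by
  obtain ⟨F⟩ := exists_frame hF
  obtain ⟨O⟩ := F.exists_outer hidx hFX
  obtain ⟨p, q, hpq, htQ⟩ := F.duadQ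
  obtain ⟨t, htv⟩ : ∃ t : ↥(G₀ ⊓ Subgroup.centralizer ({O.d p} : Set X)), (t : X) = (F.P.tt p q : X) :=
    ⟨⟨_, Subgroup.mem_inf.2 ⟨(F.P.tt p q).2,
      Subgroup.mem_centralizer_singleton_iff.2 (O.commA p _ (F.tt_mem hpq)).eq.symm⟩⟩, rfl⟩
  obtain ⟨-, -, -, -, hcl, hM⟩ := point_type h5450 h5402 hidx hF F O hpq htQ t htv
  obtain ⟨hprim, hz, h1, h2, h3⟩ := O.fusion hidx hpq t htv hcl hM
  exact ⟨O.d p, orderOf_eq_prime (by rw [pow_two, O.sq]) (fun h => O.out p (by rw [h]; exact one_mem _)), O.out p,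
    O.commA p z F.zA, conjugatesOf t,
    ⟨hcl.1, fun g x hx => IsConj.trans hx (isConj_iff.2 ⟨g, rfl⟩), hcl.2.2⟩, hprim, hM, hz, h1, h2, h3⟩

end Cfsg.Agent.Lib.FischerLarge75
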