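import Mathlib
import Cfsg.Agent.Lib.Golay.M24

/-!
# A few elements of M24 and what they fix

Owner: helper75.
-/

set_option autoImplicit false

namespace Cfsg.Agent.Lib.FischerLarge75

open Cfsg Cfsg.Agent.Lib.Golay

/-- `x ↦ x + 1` -/
noncomputable def pS : Equiv.Perm GolayPt := gperm shiftCode

/-- `x ↦ -1/x` -/
noncomputable def pW : Equiv.Perm GolayPt := gperm invCode

/-- the cube twist -/
noncomputable def pT : Equiv.Perm GolayPt := gperm twistCode

/-- code of `x ↦ 2x` -/
def hCode : ℕ := 983435072843990828779021698901151808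

/-- `x ↦ 2x` -/
noncomputable def pH : Equiv.Perm GolayPt := gperm hCode

/-- code of an element of order seven -/
def sevenCode : ℕ := 957316225099133873385554888546685171

/-- an element of order seven with three fixed points -/
noncomputable def pR : Equiv.Perm GolayPt := gperm sevenCode

theorem pS_mem : pS ∈ M24 := gperm_mem_M24 inM24_gens.1
theorem pW_mem : pW ∈ M24 := gperm_mem_M24 inM24_gens.2.1
theorem pT_mem : pT ∈ M24 := gperm_mem_M24 inM24_gens.2.2
theorem pH_mem : pH ∈ M24 := gperm_mem_M24 (by decide +kernel)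
theorem pR_mem : pR ∈ M24 := gperm_mem_M24 (by decide +kernel)

theorem okS : okCode shiftCode = true := okCode_of_inM24 inM24_gens.1
theorem okW : okCode invCode = true := okCode_of_inM24 inM24_gens.2.1
theorem okT : okCode twistCode = true := okCode_of_inM24 inM24_gens.2.2
theorem okH : okCode hCode = true := by decide +kernel
theorem okR : okCode sevenCode = true := by decide +kernel

/-- powers of a code -/
def powC (c : ℕ) : ℕ → ℕ
  | 0 => oneCode
  | n + 1 => Computation.mulP 24 5 c (powC c n)

theorem powC_spec {c : ℕ} (hc : okCode c = true) : ∀ n, okCode (powC c n) = true ∧ gperm (powC c n) = gperm c ^ n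
  | 0 => ⟨okCode_oneCode, by rw [powC, gperm_oneCode, pow_zero]⟩
  | n + 1 => by
    obtain ⟨h1, h2⟩ := powC_spec hc n
    exact ⟨okCode_mulP hc h1, by rw [powC, gperm_mul hc h1, h2, pow_succ']⟩

theorem pS_order : pS ^ 23 = 1 := by
  rw [pS, ← (powC_spec okS 23).2, ← gperm_oneCode]
  congr 1

theorem pH_order : pH ^ 11 = 1 := by
  rw [pH, ← (powC_spec okH 11).2, ← gperm_oneCode]
  congr 1

theorem pR_order : pR ^ 7 = 1 := by
  rw [pR, ← (powC_spec okR 7).2, ← gperm_oneCode]
  congr 1

theorem pT_order : pT ^ 5 = 1 := by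
  rw [pT, ← (powC_spec okT 5).2, ← gperm_oneCode]
  congr 1

theorem SH_rel : pS * pH = pH * pS ^ 12 := by
  rw [pS, pH, ← (powC_spec okS 12).2, ← gperm_mul okS okH, ← gperm_mul okH (powC_spec okS 12).1]
  congr 1

theorem HT_rel : pH * pT = pT * pH ^ 4 := by
  rw [pH, pT, ← (powC_spec okH 4).2, ← gperm_mul okH okT, ← gperm_mul okT (powC_spec okH 4).1]
  congr 1

theorem TH_rel : pT * pH = pH ^ 3 * pT := by
  rw [pH, pT, ← (powC_spec okH 3).2, ← gperm_mul okT okH, ← gperm_mul (powC_spec okH 3).1 okT]
  congr 1

theorem HW_rel : pH * pW = pW * pH ^ 10 := by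
  rw [pH, pW, ← (powC_spec okH 10).2, ← gperm_mul okH okW, ← gperm_mul okW (powC_spec okH 10).1]
  congr 1

theorem pS_apply (p : GolayPt) : pS p = imgCode shiftCode p := gperm_apply okS p
theorem pW_apply (p : GolayPt) : pW p = imgCode invCode p := gperm_apply okW p
theorem pT_apply (p : GolayPt) : pT p = imgCode twistCode p := gperm_apply okT p
theorem pH_apply (p : GolayPt) : pH p = imgCode hCode p := gperm_apply okH p
theorem pR_apply (p : GolayPt) : pR p = imgCode sevenCode p := gperm_apply okR p

theorem pS_none : pS none = none := by rw [pS_apply]; decide +kernel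
theorem pW_none : pW none = some 0 := by rw [pW_apply]; decide +kernel
theorem pW_zero : pW (some 0) = none := by rw [pW_apply]; decide +kernel
theorem pT_none : pT none = none := by rw [pT_apply]; decide +kernel
theorem pT_zero : pT (some 0) = some 0 := by rw [pT_apply]; decide +kernel
theorem pH_none : pH none = none := by rw [pH_apply]; decide +kernel
theorem pH_zero : pH (some 0) = some 0 := by rw [pH_apply]; decide +kernel
theorem pR_none : pR none = none := by rw [pR_apply]; decide +kernel
theorem pR_three : pR (some 3) = some 3 := by rw [pR_apply]; decide +kernel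
theorem pR_six : pR (some 6) = some 6 := by rw [pR_apply]; decide +kernel

theorem pS_ne : pS ≠ 1 := fun h => by
  have := congrArg (fun σ : Equiv.Perm GolayPt => σ (some 0)) h
  simp only [pS_apply, Equiv.Perm.one_apply] at this
  revert this
  decide +kernel

theorem pH_ne : pH ≠ 1 := fun h => by
  have := congrArg (fun σ : Equiv.Perm GolayPt => σ (some 1)) h
  simp only [pH_apply, Equiv.Perm.one_apply] at this
  revert this
  decide +kernel

theorem pR_ne : pR ≠ 1 := fun h => by
  have := congrArg (fun σ : Equiv.Perm GolayPt => σ (some 0)) h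
  simp only [pR_apply, Equiv.Perm.one_apply] at this
  revert this
  decide +kernel

/-- no pair is invariant under the shift -/
theorem pS_pair : ∀ p q : GolayPt, p ≠ q → ¬ ((pS p = p ∧ pS q = q) ∨ (pS p = q ∧ pS q = p)) := by
  simp only [pS_apply]
  decide +kernel

theorem pH_pair : ∀ p q : GolayPt, p ≠ q → ((pH p = p ∧ pH q = q) ∨ (pH p = q ∧ pH q = p)) →
    (p = none ∧ q = some 0) ∨ (p = some 0 ∧ q = none) := by
  simp only [pH_apply]
  decide +kernel

theorem pR_pair : ∀ p q : GolayPt, p ≠ q → ((pR p = p ∧ pR q = q) ∨ (pR p = q ∧ pR q = p)) →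
    (p = none ∨ p = some 3 ∨ p = some 6) ∧ (q = none ∨ q = some 3 ∨ q = some 6) := by
  have key : ∀ p q : GolayPt, ((imgCode sevenCode p = p ∧ imgCode sevenCode q = q) ∨
      (imgCode sevenCode p = q ∧ imgCode sevenCode q = p)) → p ≠ q →
      p ∈ [none, some 3, some 6] ∧ q ∈ [none, some 3, some 6] := by decide +kernel
  intro p q hne h
  simp only [pR_apply] at h
  simpa using key p q h hne

/-- what holds for the generators and passes to products and inverses holds on M24 -/
theorem m24_induct {P : ∀ σ : Equiv.Perm GolayPt, σ ∈ M24 → Prop}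
    (hS : P pS pS_mem) (hW : P pW pW_mem) (hT : P pT pT_mem) (h1 : P 1 (one_mem _))
    (hmul : ∀ σ τ hσ hτ, P σ hσ → P τ hτ → P (σ * τ) (mul_mem hσ hτ))
    (hinv : ∀ σ hσ, P σ hσ → P σ⁻¹ (inv_mem hσ)) : ∀ σ (hσ : σ ∈ M24), P σ hσ := by
  intro σ hσ
  have hle : genGroup ≤ M24 := genGroup_le
  suffices h : ∀ (τ : Equiv.Perm GolayPt) (hτ : τ ∈ genGroup), P τ (hle hτ) from
    h σ (by rw [closure_gens_eq]; exact hσ)
  intro τ hτ
  induction hτ using Subgroup.closure_induction with
  | mem x hx =>
    rcases hx with rfl | rfl | rfl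
    · simp only [shift_eq]; exact hS
    · simp only [projInv_eq]; exact hW
    · simp only [cubeTwist_eq]; exact hT
  | one => exact h1
  | mul x y hx hy ihx ihy => exact hmul x y _ _ ihx ihy
  | inv x hx ih => exact hinv x _ ih

end Cfsg.Agent.Lib.FischerLarge75
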