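import Cfsg.Agent.Lib.FischerLarge43.Final
import Cfsg.Agent.Lib.FischerLarge75.Perms

/-!
# Large Fischer type: the normaliser of the Thompson subgroup on the 276 pairs

The stabiliser of an element in the class of `z` has order `2^11 · 138240`, so elements of order
7, 11, 23 fix only pairs; hence the triangle relation and irreducibility.

Owner: helper75.
-/

set_option autoImplicit false
set_option linter.style.haveILetI false
set_option linter.unusedSectionVars false

namespace Cfsg.Agent.Lib.FischerLarge75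

open Cfsg Cfsg.Agent.Lib.LargeFischer13
open Cfsg.Agent.Lib.FischerLarge45 (IsOnlyMax Wof zc)
open Cfsg.Agent.Lib.FischerLarge43 (Pts)
open Cfsg.Agent.Lib.LargeExtraspecial.Basic (commute_of_sq)

attribute [local instance] Bridge.acg Bridge.fin Bridge.act

universe u

variable {G : Type u} [Group G] [Finite G] {z : G} {Q : Subgroup (Cz z)} [Q.Normal]

/-- what is used of the local structure -/
structure Frame (z : G) (Q : Subgroup (Cz z)) [Q.Normal] where
  A : Subgroup G
  T : Sylow 2 G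
  P : Pts z A
  max : IsOnlyMax A (T : Subgroup G)
  card : Nat.card A = 2 ^ 11
  zA : z ∈ A
  comm_z : ∀ s ∈ (T : Subgroup G), Commute s z
  cent : ∀ w : G, (∀ s ∈ (T : Subgroup G), Commute s w) → w = 1 ∨ w = z
  QN : ∀ q : Q, ((q : Cz z) : G) ∈ Subgroup.normalizer (A : Set G)
  duadQ : ∃ p q, p ≠ q ∧ ∃ h : P.tt p q ∈ Cz z, (⟨_, h⟩ : Cz z) ∈ Q

theorem exists_code : ∃ u < 64, u ≠ 0 ∧ FischerLarge43.isR (FischerLarge43.uvec u) = false := by decide +kernel

theorem exists_frame (hF : Cfsg.IsOfLargeFischerTypeAt z Q) : Nonempty (Frame z Q) := by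
  classical
  obtain ⟨L⟩ := FischerLarge45.exists_local hF
  obtain ⟨P⟩ := FischerLarge43.exists_pts L hF
  obtain ⟨S, hS, hmax⟩ := FischerLarge43.exists_sylow L
  have hQS : ∀ q : Q, ((q : Cz z) : G) ∈ (S : Subgroup G) := fun q => by
    rw [hS]; exact ⟨q, L.hBT (L.data.hQB q.2), rfl⟩
  have hzS : z ∈ (S : Subgroup G) := hQS ⟨zc z, L.data.es.mem⟩
  refine ⟨⟨FischerLarge43.AG L, S, P, hmax, FischerLarge43.card_AG L, ⟨zc z, L.data.U_le_W L.data.hzU, rfl⟩,
    fun s hs => ?_, fun w hw => ?_, FischerLarge43.Q_mem_NA L, ?_⟩⟩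
  · rw [hS] at hs
    obtain ⟨t, -, rfl⟩ := hs
    exact (Subgroup.mem_centralizer_singleton_iff.1 t.2)
  · have hwz : w ∈ Cz z := Subgroup.mem_centralizer_singleton_iff.2 (hw z hzS).eq.symm
    set wz : Cz z := ⟨w, hwz⟩
    have hwQ : wz ∈ Q := by
      refine (QuotientGroup.eq_one_iff wz).1 (L.br.D.faithful _ fun v => ?_)
      obtain ⟨q, rfl⟩ := L.br.π_surj v
      refine L.br.π_conj wz q q (Subtype.ext ?_)
      show ((q : Cz z) : G) = w * ((q : Cz z) : G) * w⁻¹
      rw [← (hw _ (hQS q)).eq, mul_inv_cancel_right]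
    rcases L.data.es.center wz hwQ fun q hq => Subtype.ext (hw (q : G) (hQS ⟨q, hq⟩)).eq with h | h
    · exact Or.inl (congrArg Subtype.val h)
    · exact Or.inr (congrArg Subtype.val h)
  · obtain ⟨u, hu, hu0, hR⟩ := exists_code
    set a : Cz z := FischerLarge43.sU L u * FischerLarge43.zb 0
    have ha : a ∈ L.U := L.U.mul_mem (FischerLarge43.sU_mem L hu) (FischerLarge43.zb_mem L 0)
    have hnc : ¬ IsConj z (a : G) := fun h => by
      have := (FischerLarge43.plane_class L hF hu hu0 0).1 h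
      rw [hR] at this
      exact Bool.noConfusion this
    have ha1 : (a : G) ≠ 1 := fun e => by
      have e' : FischerLarge43.sU L u = 1 := by
        have : a = 1 := Subtype.ext e
        simpa [a, FischerLarge43.zb_zero] using this
      have h2 : FischerLarge43.sU L u * FischerLarge43.zb (1 : ZMod 2) = zc z := by
        rw [e', one_mul, FischerLarge43.zb_one]
      have := (FischerLarge43.plane_class L hF hu hu0 1).1 (by rw [h2]; exact IsConj.refl z)
      rw [hR] at this
      exact Bool.noConfusion this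
    obtain ⟨p, q, hpq, e⟩ := P.surj (a : G) ⟨a, L.data.U_le_W ha, rfl⟩ ha1 hnc
    exact ⟨p, q, hpq, e ▸ a.2, by simpa [e] using L.data.hUQ ha⟩

namespace Frame

variable (F : Frame z Q)

theorem sq {a : G} (ha : a ∈ F.A) : a * a = 1 := F.max.2.1 a ha

theorem inv_eq {a : G} (ha : a ∈ F.A) : a⁻¹ = a := inv_eq_of_mul_eq_one_right (F.sq ha)

theorem comm {a b : G} (ha : a ∈ F.A) (hb : b ∈ F.A) : Commute a b := commute_of_sq F.max.2.1 ha hb

/-- a preimage of an element of M24 -/
noncomputable def lift {σ : Equiv.Perm GolayPt} (hσ : σ ∈ M24) : Subgroup.normalizer (F.A : Set G) :=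
  (show σ ∈ F.P.φ.range by rw [F.P.range_eq]; exact hσ).choose

theorem φ_lift {σ : Equiv.Perm GolayPt} (hσ : σ ∈ M24) : F.P.φ (F.lift hσ) = σ :=
  (show σ ∈ F.P.φ.range by rw [F.P.range_eq]; exact hσ).choose_spec

theorem φ_mem (m : Subgroup.normalizer (F.A : Set G)) : F.P.φ m ∈ M24 := by
  rw [← F.P.range_eq]; exact ⟨m, rfl⟩

theorem φ_eq_one {m : Subgroup.normalizer (F.A : Set G)} : F.P.φ m = 1 ↔ (m : G) ∈ F.A := by
  rw [← MonoidHom.mem_ker, F.P.ker_eq, Subgroup.mem_subgroupOf]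

theorem conj_A (m : Subgroup.normalizer (F.A : Set G)) {a : G} (ha : a ∈ F.A) :
    (m : G) * a * (m : G)⁻¹ ∈ F.A := (Subgroup.mem_normalizer_iff.1 m.2 a).1 ha

/-- elements with the same image act alike -/
theorem conj_eq {m m' : Subgroup.normalizer (F.A : Set G)} (h : F.P.φ m = F.P.φ m') {a : G} (ha : a ∈ F.A) :
    (m : G) * a * (m : G)⁻¹ = (m' : G) * a * (m' : G)⁻¹ := by
  have hb : ((m'⁻¹ * m : Subgroup.normalizer (F.A : Set G)) : G) ∈ F.A := F.φ_eq_one.1 (by simp [h])
  have := (F.comm hb ha).eq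
  simp only [Subgroup.coe_mul, Subgroup.coe_inv] at this
  calc (m : G) * a * (m : G)⁻¹ = (m' : G) * ((m' : G)⁻¹ * m * a) * (m : G)⁻¹ := by group
    _ = _ := by rw [this]; group

theorem tt_mem {p q : GolayPt} (h : p ≠ q) : F.P.tt p q ∈ F.A := (F.P.mem p q h).1

/-! ### counting -/

/-- the pairs are 276 -/
theorem card_duads : Nat.card {a : F.A // a.1 ≠ 1 ∧ ¬ IsConj z a.1} = 276 := by
  classical
  let f : {e : Sym2 GolayPt // ¬ e.IsDiag} → {a : F.A // a.1 ≠ 1 ∧ ¬ IsConj z a.1} := fun e =>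
    ⟨⟨Sym2.lift ⟨F.P.tt, F.P.symm⟩ e.1, by
      obtain ⟨e, he⟩ := e
      induction e using Sym2.ind with
      | _ p q => exact F.tt_mem (by simpa using he)⟩, by
      obtain ⟨e, he⟩ := e
      induction e using Sym2.ind with
      | _ p q => exact (F.P.mem p q (by simpa using he)).2⟩
  have hf : Function.Bijective f := by
    refine ⟨fun e e' h => ?_, fun a => ?_⟩
    · obtain ⟨e, he⟩ := e
      obtain ⟨e', he'⟩ := e'
      induction e using Sym2.ind with
      | _ p q =>
        induction e' using Sym2.ind with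
        | _ r s =>
          have := congrArg (fun x : {a : F.A // a.1 ≠ 1 ∧ ¬ IsConj z a.1} => x.1.1) h
          exact Subtype.ext (Sym2.eq_iff.2 (F.P.inj p q r s (by simpa using he) (by simpa using he') this))
    · obtain ⟨p, q, hpq, e⟩ := F.P.surj a.1.1 a.1.2 a.2.1 a.2.2
      exact ⟨⟨s(p, q), by simpa using hpq⟩, Subtype.ext (Subtype.ext e)⟩
  rw [← Nat.card_congr (Equiv.ofBijective f hf), Nat.card_eq_fintype_card, Sym2.card_subtype_not_diag]
  decide +kernel

include F in
theorem z_ne : z ≠ 1 := fun h => by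
  obtain ⟨p, q, hpq, -⟩ := F.duadQ
  have h1 : ∀ a ∈ F.A, a ≠ 1 → ¬ IsConj z a := fun a _ ha hc => ha (isConj_one_right.1 (h ▸ hc))
  have hcd := F.card_duads
  have e : Nat.card {a : F.A // a.1 ≠ 1 ∧ ¬ IsConj z a.1} = Nat.card {a : F.A // a ≠ 1} :=
    Nat.card_congr (Equiv.subtypeEquivRight fun a => ⟨fun h => fun e => h.1 (by rw [e]; rfl),
      fun h => ⟨fun e => h (Subtype.ext e), h1 _ a.2 fun e => h (Subtype.ext e)⟩⟩)
  rw [e] at hcd
  classical
  letI : Fintype F.A := Fintype.ofFinite _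
  rw [Nat.card_eq_fintype_card, Fintype.card_subtype_compl, Fintype.card_subtype_eq, ← Nat.card_eq_fintype_card,
    F.card] at hcd
  omega

/-- the class of `z` in `A` -/
theorem card_class : Nat.card {a : F.A // IsConj z a.1} = 1771 := by
  classical
  letI : Fintype F.A := Fintype.ofFinite _
  have hA : Fintype.card F.A = 2048 := by rw [← Nat.card_eq_fintype_card, F.card]; norm_num
  have hd := F.card_duads
  rw [Nat.card_eq_fintype_card, Fintype.card_subtype] at hd ⊢
  have hc : (Finset.univ.filter fun a : F.A => ¬ IsConj z a.1) =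
      insert 1 (Finset.univ.filter fun a : F.A => a.1 ≠ 1 ∧ ¬ IsConj z a.1) := by
    ext a
    by_cases ha : a = 1
    · subst ha
      simp [isConj_one_left, F.z_ne]
    · have : a.1 ≠ 1 := fun e => ha (Subtype.ext e)
      simp [ha, this]
  have h := Finset.card_filter_add_card_filter_not (s := (Finset.univ : Finset F.A)) (fun a => IsConj z a.1)
  rw [hc, Finset.card_insert_of_notMem (by simp), hd, Finset.card_univ, hA] at h
  omega

theorem card_stab {a : G} (ha : a ∈ F.A) (hc : IsConj z a) :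
    Nat.card ↥(Subgroup.normalizer (F.A : Set G) ⊓ Subgroup.centralizer ({a} : Set G) : Subgroup G) =
      2 ^ 11 * 138240 := by
  haveI : Fact (Nat.Prime 2) := ⟨Nat.prime_two⟩
  have h := (FischerLarge43.card_class_mul F.max ha).1
  rw [Nat.card_congr (Equiv.subtypeEquivRight (fun b : F.A =>
    (⟨fun h => hc.trans h, fun h => hc.symm.trans h⟩ : IsConj a b.1 ↔ IsConj z b.1))), F.card_class] at h
  have hN : Nat.card (Subgroup.normalizer (F.A : Set G)) = 244823040 * 2 ^ 11 := by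
    rw [Subgroup.card_eq_card_quotient_mul_card_subgroup F.P.φ.ker,
      Nat.card_congr (QuotientGroup.quotientKerEquivRange F.P.φ).toEquiv, F.P.range_eq, Golay.card_M24, F.P.ker_eq,
      Nat.card_congr (Subgroup.subgroupOfEquivOfLe Subgroup.le_normalizer).toEquiv, F.card]
  rw [hN] at h
  omega

/-- an element of order 7, 11 or 23 fixes only pairs it leaves invariant -/
theorem fixed_pair {m : Subgroup.normalizer (F.A : Set G)} {σ : Equiv.Perm GolayPt} (hm : F.P.φ m = σ)
    (hσ1 : σ ≠ 1) {p : ℕ} (hσ : σ ^ p = 1) (hp : p = 7 ∨ p = 11 ∨ p = 23) {a : G} (ha : a ∈ F.A) (ha1 : a ≠ 1)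
    (hfix : (m : G) * a * (m : G)⁻¹ = a) :
    ∃ x y, x ≠ y ∧ a = F.P.tt x y ∧ ((σ x = x ∧ σ y = y) ∨ (σ x = y ∧ σ y = x)) := by
  have hnc : ¬ IsConj z a := by
    intro hc
    have hpp : p.Prime := by rcases hp with rfl | rfl | rfl <;> norm_num
    haveI := Fact.mk hpp
    have hord : orderOf σ = p := orderOf_eq_prime hσ hσ1
    let m' : ↥(Subgroup.normalizer (F.A : Set G) ⊓ Subgroup.centralizer ({a} : Set G) : Subgroup G) :=
      ⟨m, m.2, Subgroup.mem_centralizer_singleton_iff.2 (mul_inv_eq_iff_eq_mul.1 hfix)⟩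
    have h1 : p ∣ orderOf m := hord ▸ hm ▸ orderOf_map_dvd F.P.φ m
    have h2 : orderOf m = orderOf m' := by
      rw [← Subgroup.orderOf_coe m, ← Subgroup.orderOf_coe m']
    have h3 := h1.trans (h2 ▸ orderOf_dvd_natCard m')
    rw [F.card_stab ha hc] at h3
    rcases hp with rfl | rfl | rfl <;> norm_num at h3
  obtain ⟨x, y, hxy, rfl⟩ := F.P.surj a ha ha1 hnc
  refine ⟨x, y, hxy, rfl, ?_⟩
  rw [F.P.equiv, hm] at hfix
  exact F.P.inj _ _ _ _ (σ.injective.ne hxy) hxy hfix

theorem fixed_S {m : Subgroup.normalizer (F.A : Set G)} (hm : F.P.φ m = pS) {a : G} (ha : a ∈ F.A)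
    (hfix : (m : G) * a * (m : G)⁻¹ = a) : a = 1 := by
  by_contra h
  obtain ⟨x, y, hxy, -, hi⟩ := F.fixed_pair hm pS_ne pS_order (Or.inr (Or.inr rfl)) ha h hfix
  exact pS_pair x y hxy hi

theorem fixed_H {m : Subgroup.normalizer (F.A : Set G)} (hm : F.P.φ m = pH) {a : G} (ha : a ∈ F.A)
    (hfix : (m : G) * a * (m : G)⁻¹ = a) : a = 1 ∨ a = F.P.tt none (some 0) := by
  by_contra h
  push Not at h
  obtain ⟨x, y, hxy, e, hi⟩ := F.fixed_pair hm pH_ne pH_order (Or.inr (Or.inl rfl)) ha h.1 hfix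
  rcases pH_pair x y hxy hi with ⟨rfl, rfl⟩ | ⟨rfl, rfl⟩
  · exact h.2 e
  · exact h.2 (e.trans (F.P.symm _ _))

/-- the triangle relation -/
theorem triangle {p q r : GolayPt} (hpq : p ≠ q) (hqr : q ≠ r) (hpr : p ≠ r) :
    F.P.tt p q * F.P.tt q r = F.P.tt p r := by
  obtain ⟨σ, hσ, h1, h2, h3⟩ : ∃ σ ∈ M24, σ none = p ∧ σ (some 3) = q ∧ σ (some 6) = r := by
    haveI := Golay.multiply_pretransitive
    haveI : MulAction.IsMultiplyPretransitive Cfsg.M24 Cfsg.GolayPt 3 :=
      MulAction.isMultiplyPretransitive_of_le (n := 5) (by norm_num) (by simp [Cfsg.GolayPt])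
    obtain ⟨⟨σ, hσ⟩, e⟩ := MulAction.exists_smul_eq Cfsg.M24
      (⟨![none, some 3, some 6], by decide +kernel⟩ : Fin 3 ↪ GolayPt)
      (⟨![p, q, r], by
        intro i j h
        fin_cases i <;> fin_cases j <;> simp_all [eq_comm]⟩ : Fin 3 ↪ GolayPt)
    exact ⟨σ, hσ, congrArg (fun f : Fin 3 ↪ GolayPt => f 0) e, congrArg (fun f : Fin 3 ↪ GolayPt => f 1) e,
      congrArg (fun f : Fin 3 ↪ GolayPt => f 2) e⟩
  suffices h : F.P.tt none (some 3) * F.P.tt (some 3) (some 6) = F.P.tt none (some 6) by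
    have := congrArg (fun a => ((F.lift hσ : Subgroup.normalizer (F.A : Set G)) : G) * a *
      ((F.lift hσ : Subgroup.normalizer (F.A : Set G)) : G)⁻¹) h
    simp only [← conj_mul, F.P.equiv, F.φ_lift, h1, h2, h3] at this
    exact this
  set a := F.P.tt none (some 3) * F.P.tt (some 3) (some 6) with ha
  have n1 : (none : GolayPt) ≠ some 3 := by simp
  have n2 : (some 3 : GolayPt) ≠ some 6 := by decide +kernel
  have n3 : (none : GolayPt) ≠ some 6 := by simp
  have haA : a ∈ F.A := mul_mem (F.tt_mem n1) (F.tt_mem n2)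
  have hm := F.φ_lift pR_mem
  have hfix : ((F.lift pR_mem : Subgroup.normalizer (F.A : Set G)) : G) * a *
      ((F.lift pR_mem : Subgroup.normalizer (F.A : Set G)) : G)⁻¹ = a := by
    rw [ha, ← conj_mul, F.P.equiv, F.P.equiv, hm, pR_none, pR_three, pR_six]
  have ha1 : a ≠ 1 := fun e => by
    have : F.P.tt none (some 3) = F.P.tt (some 3) (some 6) := by
      rw [← F.inv_eq (F.tt_mem n2)]
      exact eq_inv_of_mul_eq_one_left e
    rcases F.P.inj _ _ _ _ n1 n2 this with ⟨e1, -⟩ | ⟨e1, -⟩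
    · exact n1 e1
    · exact n3 e1
  have hne1 : a ≠ F.P.tt none (some 3) := fun e => (F.P.mem _ _ n2).2.1 (mul_eq_left.1 e)
  have hne2 : a ≠ F.P.tt (some 3) (some 6) := fun e => (F.P.mem _ _ n1).2.1 (mul_eq_right.1 e)
  obtain ⟨x, y, hxy, e, hi⟩ := F.fixed_pair hm pR_ne pR_order (Or.inl rfl) haA ha1 hfix
  obtain ⟨hx, hy⟩ := pR_pair x y hxy hi
  rcases hx with rfl | rfl | rfl <;> rcases hy with rfl | rfl | rfl <;>
    first
    | exact absurd rfl hxy
    | exact absurd e hne1
    | exact absurd (e.trans (F.P.symm _ _)) hne1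
    | exact absurd e hne2
    | exact absurd (e.trans (F.P.symm _ _)) hne2
    | exact e
    | exact e.trans (F.P.symm _ _)

end Frame

end Cfsg.Agent.Lib.FischerLarge75
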