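import Cfsg.Agent.Lib.FischerLarge75.Frame
import Cfsg.Agent.Lib.Components.GenFitting
import Cfsg.Agent.S2064

/-!
# The outer involutions over the Thompson subgroup

In a group with a subgroup of index two of large Fischer type the centraliser of `A` is elementary
abelian of order 4096 and its outer part contains a class of 24 involutions whose products are the pairs.

Owner: helper75.
-/

set_option autoImplicit false
set_option linter.style.haveILetI false
set_option linter.unusedSectionVars false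

namespace Cfsg.Agent.Lib.FischerLarge75

open Cfsg Cfsg.Agent.Lib.LargeFischer13

universe u

variable {X : Type u} [Group X] [Finite X] {G₀ : Subgroup X} {z : ↥G₀} {Q : Subgroup (Cz z)} [Q.Normal]

/-- the twenty four outer involutions -/
structure Outer (F : Frame z Q) where
  d : GolayPt → X
  out : ∀ p, d p ∉ G₀
  sq : ∀ p, d p * d p = 1
  commA : ∀ p, ∀ a ∈ F.A, Commute (d p) (a : X)
  comm : ∀ p q, Commute (d p) (d q)
  prod : ∀ p q, p ≠ q → d p * d q = (F.P.tt p q : X)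
  equiv : ∀ (m : Subgroup.normalizer (F.A : Set ↥G₀)) (p : GolayPt),
    ((m : ↥G₀) : X) * d p * ((m : ↥G₀) : X)⁻¹ = d (F.P.φ m p)
  cent : ∀ c : ↥G₀, (∀ a ∈ F.A, Commute c a) → c ∈ F.A
  full : ∀ c : X, (∀ a ∈ F.A, Commute c (a : X)) → c ∈ G₀ ∨ ∀ p, ∃ a ∈ F.A, c = d p * (a : X)

namespace Frame

variable (F : Frame z Q)

theorem exists_fix (hidx : G₀.index = 2) :
    ∃ y : X, y ∉ G₀ ∧ y * (z : X) * y⁻¹ = z ∧ ∀ a : ↥G₀, a ∈ F.A ↔ ∃ b ∈ F.A, (b : X) = y * a * y⁻¹ := by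
  haveI : Fact (Nat.Prime 2) := ⟨Nat.prime_two⟩
  haveI := Subgroup.normal_of_index_eq_two hidx
  obtain ⟨x, hx⟩ : ∃ x, x ∉ G₀ := by
    by_contra h
    push Not at h
    rw [show G₀ = ⊤ from eq_top_iff.2 fun x _ => h x, Subgroup.index_top] at hidx
    omega
  let T' : Sylow 2 ↥G₀ := F.T.comapOfKerIsPGroup (MulAut.conjNormal x⁻¹ : MulAut ↥G₀).toMonoidHom (by
    rw [(MonoidHom.ker_eq_bot_iff (MulAut.conjNormal x⁻¹ : MulAut ↥G₀).toMonoidHom).2 (MulEquiv.injective _)]
    exact IsPGroup.of_bot) (by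
    rw [MonoidHom.range_eq_top.2 (show Function.Surjective (MulAut.conjNormal x⁻¹ : MulAut ↥G₀).toMonoidHom from
      MulEquiv.surjective _)]
    exact le_top)
  obtain ⟨g, hg⟩ := MulAction.exists_smul_eq ↥G₀ T' F.T
  set y : X := (g : X) * x with hy
  have hyG : y ∉ G₀ := fun h => hx (by simpa [hy] using mul_mem (inv_mem g.2) h)
  have hT : ∀ s ∈ (F.T : Subgroup ↥G₀), (MulAut.conjNormal y s : ↥G₀) ∈ (F.T : Subgroup ↥G₀) := by
    intro s hs
    have h1 : MulAut.conjNormal x s ∈ (T' : Subgroup ↥G₀) := by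
      show MulAut.conjNormal x⁻¹ (MulAut.conjNormal x s) ∈ (F.T : Subgroup ↥G₀)
      rw [← MulAut.mul_apply, ← map_mul, inv_mul_cancel, map_one]
      exact hs
    rw [← hg]
    refine ⟨_, h1, Subtype.ext ?_⟩
    simp [hy, mul_assoc, Subgroup.pointwise_smul_def, MulAut.conj_apply]
  have hTs : ∀ s ∈ (F.T : Subgroup ↥G₀), ∃ s' ∈ (F.T : Subgroup ↥G₀), MulAut.conjNormal y s' = s := by
    intro s hs
    let f : ↥(F.T : Subgroup ↥G₀) → ↥(F.T : Subgroup ↥G₀) := fun t => ⟨_, hT t t.2⟩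
    have hf : Function.Injective f := fun a b e =>
      Subtype.ext ((MulAut.conjNormal y).injective (congrArg Subtype.val e))
    obtain ⟨t, ht⟩ := (Finite.injective_iff_surjective.1 hf) ⟨s, hs⟩
    exact ⟨t, t.2, congrArg Subtype.val ht⟩
  have hz : MulAut.conjNormal y z = z := by
    have hc : ∀ s ∈ (F.T : Subgroup ↥G₀), Commute s (MulAut.conjNormal y z) := fun s hs => by
      obtain ⟨s', hs', rfl⟩ := hTs s hs
      exact (F.comm_z s' hs').map (MulAut.conjNormal y)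
    rcases F.cent (MulAut.conjNormal y z) hc with h | h
    · exact absurd ((MulAut.conjNormal y).injective (h.trans (map_one _).symm)) F.z_ne
    · exact h
  have hA : F.A.map (MulAut.conjNormal y).toMonoidHom = F.A := by
    refine F.max.2.2 _ ?_ ?_ ?_
    · rintro _ ⟨a, ha, rfl⟩
      exact hT a (F.max.1 ha)
    · rintro _ ⟨a, ha, rfl⟩
      rw [← map_mul, F.sq ha, map_one]
    · rw [Subgroup.card_map_of_injective (f := (MulAut.conjNormal y : MulAut ↥G₀).toMonoidHom)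
        (MulEquiv.injective _)]
  refine ⟨y, hyG, ?_, fun a => ⟨fun ha => ⟨_, hA.le ⟨a, ha, rfl⟩, MulAut.conjNormal_apply _ _⟩, ?_⟩⟩
  · exact (MulAut.conjNormal_apply _ _).symm.trans (congrArg Subtype.val hz)
  · rintro ⟨b, hb, e⟩
    obtain ⟨a', ha', e'⟩ := hA.ge hb
    have : MulAut.conjNormal y a = MulAut.conjNormal y a' := by
      refine Subtype.ext ?_
      rw [MulAut.conjNormal_apply, ← e]
      exact congrArg Subtype.val e'.symm
    rw [(MulAut.conjNormal y).injective this]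
    exact ha'

theorem duads_dense {W : Subgroup ↥G₀} (hW : ∀ p q, p ≠ q → F.P.tt p q ∈ W) : F.A ≤ W := by
  classical
  haveI : Fact (Nat.Prime 2) := ⟨Nat.prime_two⟩
  haveI : Fact (Nat.Prime 23) := ⟨by norm_num⟩
  set V := Subgroup.closure {a | ∃ p q, p ≠ q ∧ F.P.tt p q = a} with hV
  have hVW : V ≤ W := (Subgroup.closure_le _).2 (by rintro _ ⟨p, q, h, rfl⟩; exact hW p q h)
  have hVA : V ≤ F.A := (Subgroup.closure_le _).2 (by rintro _ ⟨p, q, h, rfl⟩; exact F.tt_mem h)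
  set m := F.lift pS_mem with hm
  have hinv : ∀ a ∈ V, (m : ↥G₀) * a * (m : ↥G₀)⁻¹ ∈ V := by
    intro a ha
    have : V.map (MulAut.conj (m : ↥G₀)).toMonoidHom ≤ V := by
      rw [hV, MonoidHom.map_closure, Subgroup.closure_le]
      rintro _ ⟨_, ⟨p, q, h, rfl⟩, rfl⟩
      exact Subgroup.subset_closure ⟨_, _, (F.P.φ m).injective.ne h, (F.P.equiv m p q).symm⟩
    exact this ⟨a, ha, rfl⟩
  letI : Fintype V := Fintype.ofFinite _
  let f : Function.End V := fun a => ⟨_, hinv a.1 a.2⟩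
  have hpow : ∀ n, ∀ a : V, ((f ^ n) a : V).1 = ((m ^ n : Subgroup.normalizer (F.A : Set ↥G₀)) : ↥G₀) * a.1 *
      ((m ^ n : Subgroup.normalizer (F.A : Set ↥G₀)) : ↥G₀)⁻¹ := by
    intro n
    induction n with
    | zero => intro a; simp [Function.End.one_def]
    | succ n ih =>
      intro a
      rw [pow_succ']
      show (m : ↥G₀) * ((f ^ n) a : V).1 * (m : ↥G₀)⁻¹ = _
      rw [ih, pow_succ']
      push_cast
      group
  have hone : f ^ 23 ^ 1 = 1 := by
    funext a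
    refine Subtype.ext ?_
    rw [pow_one, hpow, F.conj_eq (m' := 1) (by rw [map_pow, hm, F.φ_lift, pS_order, map_one]) (hVA a.2)]
    simp [Function.End.one_def]
  have hfix : Fintype.card (Function.fixedPoints f) = 1 := by
    rw [Fintype.card_eq_one_iff]
    refine ⟨⟨1, Subtype.ext (by simp [f])⟩, fun a => ?_⟩
    exact Subtype.ext (Subtype.ext (F.fixed_S (F.φ_lift pS_mem) (hVA a.1.2) (congrArg Subtype.val a.2)))
  have hmod := Equiv.Perm.card_fixedPoints_modEq hone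
  rw [hfix, ← Nat.card_eq_fintype_card] at hmod
  obtain ⟨k, hk, hkV⟩ := (Nat.dvd_prime_pow Nat.prime_two).1 (F.card ▸ Subgroup.card_dvd_of_le hVA)
  have hk0 : k ≠ 0 := by
    rintro rfl
    rw [pow_zero] at hkV
    obtain ⟨p, q, hpq, -⟩ := F.duadQ
    have hmem : F.P.tt p q ∈ V := Subgroup.subset_closure ⟨p, q, hpq, rfl⟩
    rw [Subgroup.eq_bot_of_card_eq V hkV] at hmem
    exact (F.P.mem p q hpq).2.1 hmem
  have hk11 : k = 11 := by
    rw [hkV] at hmod
    have : ∀ j : Fin 12, j.1 ≠ 0 → 2 ^ j.1 % 23 = 1 % 23 → j.1 = 11 := by decide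
    exact this ⟨k, by omega⟩ hk0 hmod
  have hVA' : V = F.A := Subgroup.eq_of_le_of_card_ge hVA (by rw [hkV, hk11, F.card])
  exact hVA' ▸ hVW

/-- only `A` centralises `A` inside -/
theorem cent_A {c : ↥G₀} (hc : ∀ a ∈ F.A, Commute c a) : c ∈ F.A := by
  have hN : c ∈ Subgroup.normalizer (F.A : Set ↥G₀) := by
    refine Subgroup.mem_normalizer_iff.2 fun a => ⟨fun ha => ?_, fun ha => ?_⟩
    · rw [(hc a ha).eq, mul_inv_cancel_right]; exact ha
    · have := (hc _ ha).eq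
      rwa [mul_left_cancel (show c * a = c * (c * a * c⁻¹) by rw [this]; group)]
  have hfix : ∀ p, F.P.φ ⟨c, hN⟩ p = p := by
    intro p
    by_contra hne
    obtain ⟨q, hq1, hq2⟩ : ∃ q, q ≠ p ∧ q ≠ F.P.φ ⟨c, hN⟩ p :=
      (by decide +kernel : ∀ a b : GolayPt, ∃ q, q ≠ a ∧ q ≠ b) p _
    have h := F.P.equiv ⟨c, hN⟩ p q
    rw [(hc _ (F.tt_mem hq1.symm)).eq, mul_inv_cancel_right] at h
    rcases F.P.inj _ _ _ _ hq1.symm ((F.P.φ ⟨c, hN⟩).injective.ne hq1.symm) h with ⟨e, -⟩ | ⟨-, e⟩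
    · exact hne e.symm
    · exact hq2 e
  exact F.φ_eq_one.1 (Equiv.ext hfix)

/-- some outer element centralises `A` -/
theorem exists_cent (hidx : G₀.index = 2) : ∃ y : X, y ∉ G₀ ∧ ∀ a ∈ F.A, Commute y (a : X) := by
  haveI := Subgroup.normal_of_index_eq_two hidx
  obtain ⟨y, hy, -, hA⟩ := F.exists_fix hidx
  have hθ : ∀ m : Subgroup.normalizer (F.A : Set ↥G₀),
      MulAut.conjNormal y (m : ↥G₀) ∈ Subgroup.normalizer (F.A : Set ↥G₀) := by
    intro m
    have key : ∀ a, a ∈ F.A ↔ MulAut.conjNormal y a ∈ F.A := fun a => by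
      rw [hA a]
      exact ⟨fun ⟨b, hb, e⟩ => by
        rwa [show MulAut.conjNormal y a = b from Subtype.ext ((MulAut.conjNormal_apply _ _).trans e.symm)],
        fun h => ⟨_, h, MulAut.conjNormal_apply _ _⟩⟩
    refine Subgroup.mem_normalizer_iff.2 fun a => ?_
    obtain ⟨b, rfl⟩ := (MulAut.conjNormal y).surjective a
    rw [← map_inv, ← map_mul, ← map_mul, ← key, ← key]
    exact Subgroup.mem_normalizer_iff.1 m.2 b
  let θ : Subgroup.normalizer (F.A : Set ↥G₀) →* Subgroup.normalizer (F.A : Set ↥G₀) :=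
    MonoidHom.mk' (fun m => ⟨_, hθ m⟩) fun m m' => Subtype.ext (by simp)
  let φ' : Subgroup.normalizer (F.A : Set ↥G₀) →* M24 := F.P.φ.codRestrict M24 F.φ_mem
  have hφ' : Function.Surjective φ' := fun σ => ⟨F.lift σ.2, Subtype.ext (F.φ_lift σ.2)⟩
  have hker : φ'.ker ≤ (φ'.comp θ).ker := by
    intro m hm
    have hmA : (m : ↥G₀) ∈ F.A := F.φ_eq_one.1 (congrArg Subtype.val hm)
    refine Subtype.ext (F.φ_eq_one.2 ?_)
    obtain ⟨b, hb, e⟩ := (hA _).1 hmA
    show MulAut.conjNormal y (m : ↥G₀) ∈ F.A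
    rwa [show MulAut.conjNormal y (m : ↥G₀) = b from Subtype.ext ((MulAut.conjNormal_apply _ _).trans e.symm)]
  set β := φ'.liftOfSurjective hφ' ⟨φ'.comp θ, hker⟩ with hβ
  have hβa : ∀ m, β (φ' m) = φ' (θ m) := fun m =>
    MonoidHom.liftOfRightInverse_comp_apply φ' (Function.surjInv hφ') (Function.rightInverse_surjInv hφ')
      ⟨φ'.comp θ, hker⟩ m
  have hinj : Function.Injective β := (injective_iff_map_eq_one β).2 fun σ hσ => by
    obtain ⟨m, rfl⟩ := hφ' σ
    rw [hβa] at hσ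
    have h1 : MulAut.conjNormal y (m : ↥G₀) ∈ F.A := F.φ_eq_one.1 (congrArg Subtype.val hσ)
    have h2 : (m : ↥G₀) ∈ F.A := (hA _).2 ⟨_, h1, MulAut.conjNormal_apply _ _⟩
    exact Subtype.ext (F.φ_eq_one.2 h2)
  have hout := Cfsg.Agent.S2064.result
  obtain ⟨τ, hτ⟩ : (MulEquiv.ofBijective β (Finite.injective_iff_bijective.1 hinj) : MulAut M24) ∈ Cfsg.Inn M24 := by
    rw [Subgroup.index_eq_one.1 (show (Cfsg.Inn M24).index = 1 from hout)]
    exact Subgroup.mem_top _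
  set n := F.lift τ.2 with hn
  refine ⟨((n : ↥G₀) : X)⁻¹ * y, fun h => hy (by simpa using mul_mem (n : ↥G₀).2 h), ?_⟩
  set y₁ : X := ((n : ↥G₀) : X)⁻¹ * y with hy₁
  have hA₁ : ∀ a ∈ F.A, MulAut.conjNormal y₁ a ∈ F.A := by
    intro a ha
    obtain ⟨b, hb, e⟩ := (hA a).1 ha
    rw [show MulAut.conjNormal y₁ a = (n : ↥G₀)⁻¹ * b * ((n : ↥G₀)⁻¹)⁻¹ from Subtype.ext (by
      simp [hy₁, MulAut.conjNormal_apply, e, mul_assoc])]
    exact F.conj_A n⁻¹ hb
  have hφ₁ : ∀ m : Subgroup.normalizer (F.A : Set ↥G₀), ∃ m' : Subgroup.normalizer (F.A : Set ↥G₀),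
      (m' : ↥G₀) = MulAut.conjNormal y₁ (m : ↥G₀) ∧ F.P.φ m' = F.P.φ m := by
    intro m
    refine ⟨n⁻¹ * θ m * n, Subtype.ext ?_, ?_⟩
    · simp [θ, hy₁, MulAut.conjNormal_apply, mul_assoc]
    · have h1 : F.P.φ (θ m) = (τ : Equiv.Perm GolayPt) * F.P.φ m * (τ : Equiv.Perm GolayPt)⁻¹ := by
        have := congrArg (fun e : MulAut M24 => (e (φ' m) : Equiv.Perm GolayPt)) hτ
        simp only [MulAut.conj_apply, MulEquiv.ofBijective_apply, hβa] at this
        exact this.symm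
      rw [map_mul, map_mul, map_inv, h1, hn, F.φ_lift]
      group
  have ht0 : (none : GolayPt) ≠ some 0 := by simp
  have hbase : MulAut.conjNormal y₁ (F.P.tt none (some 0)) = F.P.tt none (some 0) := by
    obtain ⟨m', e, hm'⟩ := hφ₁ (F.lift pH_mem)
    have hfix : (m' : ↥G₀) * MulAut.conjNormal y₁ (F.P.tt none (some 0)) * (m' : ↥G₀)⁻¹ =
        MulAut.conjNormal y₁ (F.P.tt none (some 0)) := by
      rw [e, ← map_inv, ← map_mul, ← map_mul, F.P.equiv, F.φ_lift, pH_none, pH_zero]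
    refine ((F.fixed_H (hm'.trans (F.φ_lift _)) (hA₁ _ (F.tt_mem ht0)) hfix)).resolve_left fun h => ?_
    exact (F.P.mem _ _ ht0).2.1 ((MulAut.conjNormal y₁).injective (h.trans (map_one _).symm))
  have hall : ∀ a ∈ F.A, MulAut.conjNormal y₁ a = a := by
    intro a ha
    refine F.duads_dense (W := (MulAut.conjNormal y₁).toMonoidHom.eqLocus (MonoidHom.id ↥G₀)) (fun p q hpq => ?_) ha
    obtain ⟨m, hm, e⟩ := F.P.transitive (F.tt_mem ht0) (F.tt_mem hpq) (F.P.mem _ _ ht0).2.1 (F.P.mem _ _ hpq).2.1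
      (F.P.mem _ _ ht0).2.2 (F.P.mem _ _ hpq).2.2
    obtain ⟨m', e', hm'⟩ := hφ₁ ⟨m, hm⟩
    show MulAut.conjNormal y₁ (F.P.tt p q) = F.P.tt p q
    rw [← e, map_mul, map_mul, map_inv, hbase]
    show MulAut.conjNormal y₁ ((⟨m, hm⟩ : Subgroup.normalizer (F.A : Set ↥G₀)) : ↥G₀) * _ * _ = _
    rw [← e']
    exact F.conj_eq hm' (F.tt_mem ht0)
  intro a ha
  have := congrArg Subtype.val (hall a ha)
  rw [MulAut.conjNormal_apply] at this
  exact mul_inv_eq_iff_eq_mul.1 this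

/-- conjugation by a normaliser element -/
abbrev cj (m : Subgroup.normalizer (F.A : Set ↥G₀)) (c : X) : X :=
  ((m : ↥G₀) : X) * c * ((m : ↥G₀) : X)⁻¹

theorem exists_outer (hidx : G₀.index = 2)
    (hFX : (Cfsg.generalizedFittingSubgroup ↥(Subgroup.centralizer ({(z : X)} : Set X))).map (Subgroup.subtype _) =
      ((Q.map (Subgroup.subtype _)).map G₀.subtype)) : Nonempty (Outer F) := by
  classical
  haveI := Subgroup.normal_of_index_eq_two hidx
  haveI : Fact (Nat.Prime 23) := ⟨by norm_num⟩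
  obtain ⟨y, hy, hyA⟩ := F.exists_cent hidx
  let Cn : X → Prop := fun c => ∀ a ∈ F.A, Commute c (a : X)
  have hin : ∀ {c}, Cn c → c ∈ G₀ → ∃ a ∈ F.A, c = (a : X) := fun {c} hc h =>
    ⟨⟨c, h⟩, F.cent_A (fun a ha => Subtype.ext (hc a ha).eq), rfl⟩
  have hmul : ∀ {c c'}, Cn c → Cn c' → Cn (c * c') := fun h h' a ha => (h a ha).mul_left (h' a ha)
  have hinvC : ∀ {c}, Cn c → Cn c⁻¹ := fun h a ha => (h a ha).inv_left
  have hcos : ∀ {c c'}, Cn c → Cn c' → c ∉ G₀ → c' ∉ G₀ → ∃ a ∈ F.A, c' = c * (a : X) := by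
    intro c c' hc hc' h h'
    obtain ⟨a, ha, e⟩ := hin (hmul (hinvC hc) hc') ((Subgroup.mul_mem_iff_of_index_two hidx).2
      (iff_of_false (fun e => h (by simpa using inv_mem e)) h'))
    exact ⟨a, ha, by rw [← e, mul_inv_cancel_left]⟩
  have hab : ∀ {c c'}, Cn c → Cn c' → Commute c c' := by
    intro c c' hc hc'
    by_cases h : c ∈ G₀
    · obtain ⟨a, ha, rfl⟩ := hin hc h
      exact (hc' a ha).symm
    by_cases h' : c' ∈ G₀
    · obtain ⟨a, ha, rfl⟩ := hin hc' h'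
      exact hc a ha
    obtain ⟨a, ha, rfl⟩ := hcos hc hc' h h'
    exact (Commute.refl c).mul_right (hc a ha)
  have hconjC : ∀ (m : Subgroup.normalizer (F.A : Set ↥G₀)) {c}, Cn c → Cn (F.cj m c) := by
    intro m c hc a ha
    have hb : (m : ↥G₀)⁻¹ * a * ((m : ↥G₀)⁻¹)⁻¹ ∈ F.A := F.conj_A m⁻¹ ha
    have := (hc _ hb).eq
    simp only [Subgroup.coe_mul, Subgroup.coe_inv, inv_inv] at this
    show F.cj m c * a = a * F.cj m c
    calc F.cj m c * a = ((m : ↥G₀) : X) * (c * (((m : ↥G₀) : X)⁻¹ * a * ((m : ↥G₀) : X))) * ((m : ↥G₀) : X)⁻¹ := by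
          simp only [cj]; group
      _ = _ := by rw [this]; simp only [cj]; group
  have hcjG : ∀ (m : Subgroup.normalizer (F.A : Set ↥G₀)) (c : X), F.cj m c ∈ G₀ ↔ c ∈ G₀ := fun m c =>
    ⟨fun h => by simpa [cj, mul_assoc] using mul_mem (mul_mem (inv_mem (m : ↥G₀).2) h) (m : ↥G₀).2,
      fun h => Subgroup.Normal.conj_mem inferInstance c h _⟩
  have hcjA : ∀ (m : Subgroup.normalizer (F.A : Set ↥G₀)) (a : ↥G₀),
      F.cj m (a : X) = (((m : ↥G₀) * a * (m : ↥G₀)⁻¹ : ↥G₀) : X) := fun m a => by simp [cj]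
  have hcjm : ∀ (m : Subgroup.normalizer (F.A : Set ↥G₀)) (c c' : X), F.cj m (c * c') = F.cj m c * F.cj m c' :=
    fun m c c' => conj_mul.symm
  have hcomp : ∀ (m m' : Subgroup.normalizer (F.A : Set ↥G₀)) (c : X), F.cj (m * m') c = F.cj m (F.cj m' c) :=
    fun m m' c => by simp [cj, mul_assoc]
  have hsame : ∀ {m m' : Subgroup.normalizer (F.A : Set ↥G₀)}, F.P.φ m = F.P.φ m' → ∀ {c}, Cn c →
      F.cj m c = F.cj m' c := by
    intro m m' h c hc
    have hb : ((m'⁻¹ * m : Subgroup.normalizer (F.A : Set ↥G₀)) : ↥G₀) ∈ F.A := F.φ_eq_one.1 (by simp [h])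
    rw [← mul_inv_cancel_left m' m, hcomp]
    congr 1
    show _ * c * _ = c
    rw [← (hc _ hb).eq, mul_inv_cancel_right]
  have hone : ∀ {m : Subgroup.normalizer (F.A : Set ↥G₀)}, F.P.φ m = 1 → ∀ {c}, Cn c → F.cj m c = c := by
    intro m h c hc
    rw [hsame (m' := 1) (by rw [h, map_one]) hc]
    simp [cj]
  -- the fixed point of the shift
  set s := F.lift pS_mem with hs
  let O := {c : X // Cn c ∧ c ∉ G₀}
  letI : Fintype O := Fintype.ofFinite _
  have hO : Fintype.card O = 2048 := by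
    let e : F.A → O := fun a => ⟨y * ((a : ↥G₀) : X),
      hmul hyA (fun b hb => (F.comm a.2 hb).map G₀.subtype),
      fun h => hy ((mul_mem_cancel_right (a : ↥G₀).2).1 h)⟩
    have he : Function.Bijective e := by
      refine ⟨fun a b h => Subtype.ext (Subtype.ext (mul_left_cancel (congrArg Subtype.val h))), fun c => ?_⟩
      obtain ⟨a, ha, e'⟩ := hcos hyA c.2.1 hy c.2.2
      exact ⟨⟨a, ha⟩, Subtype.ext e'.symm⟩
    rw [← Nat.card_eq_fintype_card, ← Nat.card_congr (Equiv.ofBijective e he), F.card]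
    norm_num
  let f : Function.End O := fun c => ⟨F.cj s c.1, hconjC s c.2.1, fun h => c.2.2 ((hcjG s c.1).1 h)⟩
  have hfp : ∀ n (c : O), ((f ^ n) c).1 = F.cj (s ^ n) c.1 := by
    intro n
    induction n with
    | zero => intro c; simp [cj, Function.End.one_def]
    | succ n ih =>
      intro c
      rw [pow_succ', pow_succ', hcomp]
      show F.cj s ((f ^ n) c).1 = _
      rw [ih]
  have hf : f ^ 23 ^ 1 = 1 := by
    funext c
    refine Subtype.ext ?_
    rw [pow_one, hfp, hone (by rw [map_pow, hs, F.φ_lift, pS_order]) c.2.1]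
    rfl
  have hmod := Equiv.Perm.card_fixedPoints_modEq hf
  rw [hO] at hmod
  obtain ⟨⟨⟨d, hdC, hdG⟩, hdfix⟩⟩ : Nonempty (Function.fixedPoints f) := by
    rw [← Fintype.card_pos_iff, Nat.pos_iff_ne_zero]
    intro h
    rw [h] at hmod
    exact absurd hmod (by decide)
  have hds : F.cj s d = d := congrArg Subtype.val hdfix
  have huniq : ∀ {c}, Cn c → c ∉ G₀ → F.cj s c = c → c = d := by
    intro c hc hcG hcs
    obtain ⟨a, ha, rfl⟩ := hcos hdC hc hdG hcG
    rw [hcjm, hds, mul_left_cancel_iff, hcjA] at hcs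
    rw [F.fixed_S (F.φ_lift _) ha (Subtype.ext hcs)]
    simp
  have hsq : d * d = 1 := by
    obtain ⟨a, ha, e⟩ := hin (hmul hdC hdC) ((Subgroup.mul_mem_iff_of_index_two hidx).2 (iff_of_false hdG hdG))
    have h : (s : ↥G₀) * a * (s : ↥G₀)⁻¹ = a := Subtype.ext (by rw [← hcjA, ← e, hcjm, hds])
    rw [e, F.fixed_S (F.φ_lift _) ha h]
    rfl
  -- the generators
  set mH := F.lift pH_mem with hmH
  have hdH : F.cj mH d = d := by
    refine huniq (hconjC _ hdC) (fun h => hdG ((hcjG _ _).1 h)) ?_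
    rw [← hcomp, hsame (m' := mH * s ^ 12) (by rw [map_mul, map_mul, map_pow, hmH, hs, F.φ_lift, F.φ_lift, SH_rel]) hdC,
      hcomp]
    congr 1
    have : Commute (((s : ↥G₀) : X)) d := mul_inv_eq_iff_eq_mul.1 hds
    show (((s ^ 12 : Subgroup.normalizer (F.A : Set ↥G₀)) : ↥G₀) : X) * d * _ = d
    push_cast
    rw [(this.pow_left 12).eq, mul_inv_cancel_right]
  have hHpow : ∀ n, F.cj (mH ^ n) d = d := by
    intro n
    have : Commute (((mH : ↥G₀) : X)) d := mul_inv_eq_iff_eq_mul.1 hdH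
    show (((mH ^ n : Subgroup.normalizer (F.A : Set ↥G₀)) : ↥G₀) : X) * d * _ = d
    push_cast
    rw [(this.pow_left n).eq, mul_inv_cancel_right]
  have ht0 : (none : GolayPt) ≠ some 0 := by simp
  set t0 := F.P.tt none (some 0) with ht0def
  have hcase : ∀ {σ : Equiv.Perm GolayPt} (hσ : σ ∈ M24) (n : ℕ), pH * σ = σ * pH ^ n →
      F.cj (F.lift hσ) d = d ∨ F.cj (F.lift hσ) d = d * (t0 : X) := by
    intro σ hσ n hn
    have hfix : F.cj mH (F.cj (F.lift hσ) d) = F.cj (F.lift hσ) d := by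
      rw [← hcomp, hsame (m' := F.lift hσ * mH ^ n) (by rw [map_mul, map_mul, map_pow, hmH, F.φ_lift, F.φ_lift, hn]) hdC,
        hcomp, hHpow]
    obtain ⟨a, ha, e⟩ := hcos hdC (hconjC (F.lift hσ) hdC) hdG (fun h => hdG ((hcjG _ _).1 h))
    rw [e, hcjm, hdH, mul_left_cancel_iff, hcjA] at hfix
    rcases F.fixed_H (F.φ_lift _) ha (Subtype.ext hfix) with rfl | rfl
    · exact Or.inl (by rw [e]; simp)
    · exact Or.inr e
  have hdT : F.cj (F.lift pT_mem) d = d := by
    refine (hcase pT_mem 4 HT_rel).resolve_right fun h => ?_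
    set mT := F.lift pT_mem with hmT
    have htt : F.cj mT (t0 : X) = (t0 : X) := by
      rw [hcjA, ht0def, F.P.equiv, hmT, F.φ_lift, pT_none, pT_zero]
    have hn : ∀ n, F.cj (mT ^ n) d = d * (t0 : X) ^ n := by
      intro n
      induction n with
      | zero => simp [cj]
      | succ n ih =>
        rw [pow_succ', hcomp, ih, hcjm, h]
        have : F.cj mT ((t0 : X) ^ n) = (t0 : X) ^ n := by
          show _ * (t0 : X) ^ n * _ = _
          rw [((show Commute (((mT : ↥G₀) : X)) (t0 : X) from mul_inv_eq_iff_eq_mul.1 htt).pow_right n).eq,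
            mul_inv_cancel_right]
        rw [this, pow_succ', mul_assoc]
    have h5 := hn 5
    rw [hone (by rw [map_pow, hmT, F.φ_lift, pT_order]) hdC] at h5
    have h2 : (t0 : X) * (t0 : X) = 1 := by
      rw [← Subgroup.coe_mul, F.sq (F.tt_mem ht0)]; rfl
    rw [show (t0 : X) ^ 5 = (t0 : X) by
      rw [show (5 : ℕ) = 2 + 2 + 1 from rfl, pow_succ, pow_add, pow_two, h2, one_mul, one_mul]] at h5
    exact (F.P.mem _ _ ht0).2.1 (Subtype.ext (left_eq_mul.1 h5))
  have hdW : F.cj (F.lift pW_mem) d = d * (t0 : X) := by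
    refine (hcase pW_mem 10 HW_rel).resolve_left fun hW => hdG ?_
    have hallM : ∀ σ (hσ : σ ∈ M24), ∀ m, F.P.φ m = σ → F.cj m d = d := by
      refine m24_induct (fun m hm => ?_) (fun m hm => ?_) (fun m hm => ?_) (fun m hm => hone hm hdC)
        (fun σ τ hσ hτ ih ih' m hm => ?_) (fun σ hσ ih m hm => ?_)
      · rw [hsame (hm.trans (F.φ_lift _).symm) hdC]; exact hds
      · rw [hsame (hm.trans (F.φ_lift _).symm) hdC]; exact hW
      · rw [hsame (hm.trans (F.φ_lift _).symm) hdC]; exact hdT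
      · rw [hsame (m' := F.lift hσ * F.lift hτ) (by rw [hm, map_mul, F.φ_lift, F.φ_lift]) hdC, hcomp,
          ih' _ (F.φ_lift _), ih _ (F.φ_lift _)]
      · have h := ih m⁻¹ (by rw [map_inv, hm, inv_inv])
        conv_lhs => rw [← h]
        rw [← hcomp, mul_inv_cancel]
        simp [cj]
    have hdz : d ∈ Subgroup.centralizer ({(z : X)} : Set X) :=
      Subgroup.mem_centralizer_singleton_iff.2 (hdC z F.zA).eq
    set C := Subgroup.centralizer ({(z : X)} : Set X)
    have hmem : (⟨d, hdz⟩ : C) ∈ Cfsg.generalizedFittingSubgroup ↥C := by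
      refine Components.GenFitting.centralizer_le (Subgroup.mem_centralizer_iff.2 fun w hw => Subtype.ext ?_)
      obtain ⟨q', ⟨q, hq, rfl⟩, e⟩ := hFX.le ⟨w, hw, rfl⟩
      have hd := hallM _ (F.φ_mem ⟨_, F.QN ⟨q, hq⟩⟩) ⟨_, F.QN ⟨q, hq⟩⟩ rfl
      show (w : X) * d = d * (w : X)
      rw [show (w : X) = ((q : ↥G₀) : X) from e.symm]
      exact mul_inv_eq_iff_eq_mul.1 hd
    obtain ⟨q', -, e⟩ := hFX.le ⟨_, hmem, rfl⟩
    rw [show d = (q' : X) from e.symm]
    exact q'.2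
  -- the orbit
  let dp : GolayPt → X := fun p => if p = none then d else d * (F.P.tt none p : X)
  have hdpC : ∀ p, Cn (dp p) := fun p => by
    simp only [dp]
    split_ifs with h
    · exact hdC
    · exact hmul hdC fun b hb => (F.comm (F.tt_mem (Ne.symm h)) hb).map G₀.subtype
  have hdpG : ∀ p, dp p ∉ G₀ := fun p => by
    simp only [dp]
    split_ifs with h
    · exact hdG
    · exact fun h' => hdG ((mul_mem_cancel_right (F.P.tt none p).2).1 h')
  have hstep : ∀ p q, p ≠ q → dp p * (F.P.tt p q : X) = dp q := by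
    intro p q hpq
    simp only [dp]
    split_ifs with h h' h'
    · exact absurd (h.trans h'.symm) hpq
    · rw [h]
    · rw [h', mul_assoc, F.P.symm p none, ← Subgroup.coe_mul, F.sq (F.tt_mem (Ne.symm h))]
      simp
    · rw [mul_assoc, ← Subgroup.coe_mul, F.triangle (Ne.symm h) hpq (Ne.symm h')]
  have hdn : dp none = d := if_pos rfl
  have hext : ∀ {m : Subgroup.normalizer (F.A : Set ↥G₀)}, F.cj m d = dp (F.P.φ m none) →
      ∀ q, F.cj m (dp q) = dp (F.P.φ m q) := by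
    intro m hm q
    by_cases hq : q = none
    · rw [hq, hdn]; exact hm
    · rw [show dp q = d * (F.P.tt none q : X) from if_neg hq, hcjm, hm, hcjA, F.P.equiv,
        hstep _ _ ((F.P.φ m).injective.ne (Ne.symm hq))]
  have horb : ∀ σ (hσ : σ ∈ M24), ∀ m, F.P.φ m = σ → F.cj m d = dp (σ none) := by
    refine m24_induct (fun m hm => ?_) (fun m hm => ?_) (fun m hm => ?_) (fun m hm => ?_)
      (fun σ τ hσ hτ ih ih' m hm => ?_) (fun σ hσ ih m hm => ?_)
    · rw [hsame (hm.trans (F.φ_lift _).symm) hdC, pS_none, hdn]; exact hds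
    · rw [hsame (hm.trans (F.φ_lift pW_mem).symm) hdC, pW_none, hdW, ← hstep none (some 0) ht0, hdn]
    · rw [hsame (hm.trans (F.φ_lift _).symm) hdC, pT_none, hdn]; exact hdT
    · rw [hone hm hdC]; exact hdn.symm
    · rw [hsame (m' := F.lift hσ * F.lift hτ) (by rw [hm, map_mul, F.φ_lift, F.φ_lift]) hdC, hcomp,
        ih' _ (F.φ_lift _), hext (by rw [F.φ_lift]; exact ih _ (F.φ_lift _)), F.φ_lift]
      rfl
    · have hm' : F.P.φ m⁻¹ = σ := by rw [map_inv, hm, inv_inv]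
      have h := hext (m := m⁻¹) (by rw [hm']; exact ih _ hm') (σ⁻¹ none)
      rw [hm', show σ (σ⁻¹ none) = none from σ.apply_symm_apply none, hdn] at h
      conv_lhs => rw [← h]
      rw [← hcomp, mul_inv_cancel]
      simp [cj]
  have hsqdp : ∀ p, dp p * dp p = 1 := fun p => by
    by_cases hp : p = none
    · rw [hp, hdn, hsq]
    · have hA := F.tt_mem (Ne.symm hp)
      rw [show dp p = d * (F.P.tt none p : X) from if_neg hp, (hdC _ hA).symm.mul_mul_mul_comm, hsq, one_mul,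
        ← Subgroup.coe_mul, F.sq hA]
      rfl
  refine ⟨⟨dp, hdpG, hsqdp, fun p a ha => hdpC p a ha, fun p q => hab (hdpC p) (hdpC q), fun p q hpq => ?_,
    fun m p => hext (horb _ (F.φ_mem m) m rfl) p, fun c hc => F.cent_A hc, fun c hc => ?_⟩⟩
  · rw [← hstep p q hpq, ← mul_assoc, hsqdp, one_mul]
  · by_cases h : c ∈ G₀
    · exact Or.inl h
    · exact Or.inr fun p => hcos (hdpC p) hc (hdpG p) h

end Frame

end Cfsg.Agent.Lib.FischerLarge75
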